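import Groth.Agent.H9DefT.LiftMinors
import Groth.Agent.S12907
import Groth.Agent.LC.PdRegular
import Groth.Agent.LC.GorLoc
import Groth.Agent.AvramovLib.Ps
import Groth.Agent.Alg6.LocLoc
import Mathlib.RingTheory.Ideal.KrullsHeightTheorem
import Mathlib.Algebra.Module.SpanRank

/-! The structure of Cohen–Macaulay quotients of codimension two of regular local rings. -/

set_option autoImplicit false
set_option linter.style.haveILetI false
set_option backward.isDefEq.respectTransparency false
set_option backward.isDefEq.respectTransparency.types false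

universe u

open IsLocalRing

namespace Groth.Agent.H9DefT

theorem exists_resolution_codim_two (A : Type u) [CommRing A] [IsRegularLocalRing A] (I : Ideal A)
    [LocCoh.IsCohenMacaulayLocalRing (A ⧸ I)] (hcodim : ringKrullDim (A ⧸ I) + 2 = ringKrullDim A) :
    ∃ (r : ℕ) (φ : Matrix (Fin (r + 1)) (Fin r) A), Ideal.span (Set.range (minors φ)) = I ∧
      I.spanFinrank = r + 1 ∧ Function.Injective φ.mulVecLin ∧
      LinearMap.range φ.mulVecLin = LinearMap.ker (Fintype.linearCombination A (minors φ)) := by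
  classical
  haveI := AvramovLib.isCM_of_regular A
  haveI : IsLocalRing (A ⧸ I) := ‹LocCoh.IsCohenMacaulayLocalRing (A ⧸ I)›.toIsLocalRing
  have hI : I ≠ ⊤ := fun h => by
    haveI : Nontrivial (A ⧸ I) := inferInstance
    exact (Ideal.Quotient.nontrivial_iff.1 this) h
  -- height two
  have hadd := LC.height_add_ringKrullDim_quotient I hI
  haveI : FiniteRingKrullDim A := inferInstance
  obtain ⟨d, hd⟩ : ∃ d : ℕ, ringKrullDim A = d := by
    haveI := LC.gorenstein_of_isRegularLocalRing (R := A)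
    obtain ⟨d', hd', -, -⟩ := LC.gorenstein_basic (R := A)
    exact ⟨d', hd'⟩
  have hdepth : LocCoh.depth A (A ⧸ I) = LocCoh.depth (A ⧸ I) (A ⧸ I) :=
    Alg6.depth_eq_of_semilinear (Ideal.Quotient.mk I) Ideal.Quotient.mk_surjective (AddEquiv.refl _) fun r x => by
      obtain ⟨x, rfl⟩ := Ideal.Quotient.mk_surjective x
      rfl
  have hCM : ringKrullDim (A ⧸ I) = ((LocCoh.depth (A ⧸ I) (A ⧸ I) : ℕ∞) : WithBot ℕ∞) :=
    (Module.supportDim_self_eq_ringKrullDim (R := A ⧸ I)).symm.trans
      LocCoh.IsCohenMacaulayLocalRing.supportDim_eq_depth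
  rw [hd, hCM] at hcodim hadd
  have hc' : LocCoh.depth (A ⧸ I) (A ⧸ I) + 2 = (d : ℕ∞) := WithBot.coe_injective (hcodim)
  have ha' : LocCoh.depth (A ⧸ I) (A ⧸ I) + I.height = (d : ℕ∞) := WithBot.coe_injective hadd
  have hht : I.height = 2 := by
    have hne : LocCoh.depth (A ⧸ I) (A ⧸ I) ≠ ⊤ := fun h => by simp [h] at hc'
    exact (ENat.add_left_injective_of_ne_top hne).eq_iff.1 (by
      show I.height + LocCoh.depth (A ⧸ I) (A ⧸ I) = 2 + LocCoh.depth (A ⧸ I) (A ⧸ I)
      rw [add_comm _ (LocCoh.depth _ _), add_comm 2, hc', ha'])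
  have hpd : RegLoc6.PdLE A 2 (A ⧸ I) := LC.pdLE_of_le_depth A d hd (A ⧸ I) 2 (by rw [hdepth]; exact hc'.ge)
  have hI1 : RegLoc6.PdLE A 1 (LinearMap.ker (I.mkQ)) :=
    (RegLoc6.pdLE_succ_iff I.mkQ (Submodule.mkQ_surjective I)).1 hpd
  -- generators
  obtain ⟨s, hscard, hsspan⟩ := (IsNoetherian.noetherian I).exists_span_finset_card_eq_spanFinrank
  let p : Fin s.card → A := fun i => (s.equivFin.symm i : A)
  have hp : Ideal.span (Set.range p) = I := by
    have hr : Set.range p = (s : Set A) := by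
      ext a
      exact ⟨fun ⟨i, hi⟩ => hi ▸ (s.equivFin.symm i).2, fun ha => ⟨s.equivFin ⟨a, ha⟩, by simp [p]⟩⟩
    rw [hr]; exact hsspan
  let π : (Fin s.card → A) →ₗ[A] A := Fintype.linearCombination A p
  have hπI : LinearMap.range π = I := by rw [Fintype.range_linearCombination]; exact hp
  let π' : (Fin s.card → A) →ₗ[A] LinearMap.ker (I.mkQ) :=
    π.codRestrict _ fun x => by rw [Submodule.ker_mkQ, ← hπI]; exact ⟨x, rfl⟩
  have hπ' : Function.Surjective π' := by
    rintro ⟨a, ha⟩
    rw [Submodule.ker_mkQ, ← hπI] at ha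
    obtain ⟨x, rfl⟩ := ha
    exact ⟨x, rfl⟩
  haveI hproj : Module.Projective A (LinearMap.ker π') :=
    RegLoc6.pdLE_zero_iff.1 ((RegLoc6.pdLE_succ_iff π' hπ').1 hI1)
  haveI : Module.Free A (LinearMap.ker π') := Module.free_of_flat_of_isLocalRing
  let bK := Module.finBasis A (LinearMap.ker π')
  let L : (Fin (Module.finrank A (LinearMap.ker π')) → A) →ₗ[A] (Fin s.card → A) :=
    (LinearMap.ker π').subtype ∘ₗ bK.equivFun.symm.toLinearMap
  let Ψ := LinearMap.toMatrix' L
  have hΨ : Ψ.mulVecLin = L := by rw [← Matrix.toLin'_apply', Matrix.toLin'_toMatrix']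
  have hker : LinearMap.ker π = LinearMap.range Ψ.mulVecLin := by
    rw [hΨ, LinearMap.range_comp, LinearEquiv.range, Submodule.map_top, Submodule.range_subtype,
      LinearMap.ker_codRestrict]
  have hne : LinearMap.range π ≠ ⊥ := by
    rw [hπI]
    intro h
    rw [h, Ideal.height_bot] at hht
    norm_num at hht
  obtain ⟨hn, ⟨a, -, hrange⟩, hdepth2⟩ := S12907.result _ _ Ψ π
    (by rw [hΨ, LinearMap.ker_eq_bot]; exact Subtype.val_injective.comp bK.equivFun.symm.injective) hker hne
  -- the factor is a unit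
  have hu : IsUnit a := by
    by_contra hu
    have h1 := Ideal.height_mono (show I ≤ Ideal.span {a} from hπI ▸ hrange.le.trans Ideal.mul_le_left)
    rw [hht] at h1
    exact absurd (h1.trans (Ideal.height_span_singleton_le_one hu)) (by norm_num)
  rw [Ideal.span_singleton_eq_top.2 hu, Ideal.top_mul, hπI] at hrange
  let φ : Matrix (Fin (Module.finrank A (LinearMap.ker π') + 1)) (Fin (Module.finrank A (LinearMap.ker π'))) A :=
    Ψ.submatrix (Fin.cast hn.symm) id
  have hmi : CAlgX.minorIdeal φ (Module.finrank A (LinearMap.ker π')) =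
      CAlgX.minorIdeal Ψ (Module.finrank A (LinearMap.ker π')) := by
    apply le_antisymm <;> refine Ideal.span_le.2 ?_
    · rintro _ ⟨⟨f, g⟩, rfl⟩
      exact Ideal.subset_span ⟨⟨Fin.cast hn.symm ∘ f, g⟩, rfl⟩
    · rintro _ ⟨⟨f, g⟩, rfl⟩
      refine Ideal.subset_span ⟨⟨Fin.cast hn ∘ f, g⟩, ?_⟩
      simp only [φ, Matrix.submatrix_submatrix, Function.id_comp]
      rfl
  have hinj : Function.Injective φ.mulVecLin := by
    intro x y h
    have : Ψ.mulVecLin x = Ψ.mulVecLin y := funext fun i => by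
      have := congrFun h (Fin.cast hn i)
      exact this
    rw [hΨ] at this
    exact (Subtype.val_injective.comp bK.equivFun.symm.injective) this
  refine ⟨_, φ, ?_, ?_, hinj, le_antisymm ?_ fun v hv => ?_⟩
  · exact ((McCoy.minorIdeal_eq_span_delta φ).symm.trans hmi).trans hrange.symm
  · exact hscard.symm.trans hn
  · rintro _ ⟨x, rfl⟩
    exact linearCombination_minors_mulVec φ x
  · refine McCoy.mem_range_of_hasRegularPair φ (McCoy.hasRegularPair_of_idealDepth (by rw [hmi]; exact hdepth2)) v ?_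
    rw [LinearMap.mem_ker, Fintype.linearCombination_apply] at hv
    rw [← hv]
    exact Finset.sum_congr rfl fun i _ => by rw [smul_eq_mul, mul_comm]; rfl

end Groth.Agent.H9DefT
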