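import Groth.Agent.H9DefT.CodimTwo
import Groth.Agent.RegImmLib.RegStalk
import Groth.Agent.GrpSchLib.SmoothRegular
import Groth.Agent.LC.LiaisonLocal
import Mathlib.RingTheory.Localization.Integer

/-! Cohen–Macaulay closed subschemes of codimension two in smooth schemes over a field. -/

set_option autoImplicit false
set_option linter.style.haveILetI false
set_option backward.isDefEq.respectTransparency false
set_option backward.isDefEq.respectTransparency.types false

universe u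

open CategoryTheory AlgebraicGeometry

namespace Groth.Agent.H9DefT

theorem minors_smul {R : Type u} [CommRing R] {r : ℕ} (c : R) (φ : Matrix (Fin (r + 1)) (Fin r) R) (i : Fin (r + 1)) :
    minors (c • φ) i = c ^ r * minors φ i := by
  simp only [minors, Matrix.submatrix_smul, Pi.smul_apply, Matrix.det_smul, Fintype.card_fin]
  ring

theorem span_map_minors {R S : Type u} [CommRing R] [CommRing S] (f : R →+* S) {r : ℕ}
    (φ : Matrix (Fin (r + 1)) (Fin r) R) :
    (Ideal.span (Set.range (minors φ))).map f = Ideal.span (Set.range (minors (φ.map f))) := by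
  rw [Ideal.map_span, ← Set.range_comp]
  congr 1
  exact congrArg Set.range (funext fun i => map_minors f φ i)

/-- Two finitely generated ideals with the same localisation become equal after inverting one element. -/
theorem exists_mul_mem_of_map_le {R S : Type u} [CommRing R] [CommRing S] [Algebra R S] (M : Submonoid R)
    [IsLocalization M S] {I I' : Ideal R} (hI : I.FG)
    (h : I.map (algebraMap R S) ≤ I'.map (algebraMap R S)) : ∃ g ∈ M, ∀ a ∈ I, g * a ∈ I' := by
  obtain ⟨n, a, ha⟩ := Submodule.fg_iff_exists_fin_generating_family.1 hI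
  have hex : ∀ i, ∃ s : M, (s : R) * a i ∈ I' := fun i => by
    obtain ⟨⟨⟨b, hb⟩, t⟩, hbt⟩ := (IsLocalization.mem_map_algebraMap_iff M S).1
      (h (Ideal.mem_map_of_mem _ (show a i ∈ I by rw [← ha]; exact Submodule.subset_span ⟨i, rfl⟩)))
    rw [← map_mul] at hbt
    obtain ⟨c, hc⟩ := (IsLocalization.eq_iff_exists M S).1 hbt
    refine ⟨c * t, ?_⟩
    rw [Submonoid.coe_mul, mul_assoc, mul_comm (t : R), hc]
    exact I'.mul_mem_left _ hb
  choose s hs using hex
  refine ⟨((∏ i, s i : M) : R), (∏ i, s i).2, fun x hx => ?_⟩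
  obtain ⟨c, rfl⟩ := Ideal.mem_span_range_iff_exists_fun.1 (show x ∈ Submodule.span R (Set.range a) by rw [ha]; exact hx)
  rw [Finset.mul_sum]
  refine Ideal.sum_mem _ fun i _ => ?_
  rw [mul_left_comm]
  refine Ideal.mul_mem_left _ _ ?_
  rw [← Finset.mul_prod_erase Finset.univ s (Finset.mem_univ i), Submonoid.coe_mul, mul_right_comm]
  exact Ideal.mul_mem_right _ _ (hs i)

theorem exists_affine_resolution_pair (k : Type u) [Field k]
    (X Y : Scheme.{u}) (f : X ⟶ Spec (CommRingCat.of k)) [Smooth f] (ι : Y ⟶ X) [IsClosedImmersion ι]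
    (hCM : ∀ y : Y, LocCoh.IsCohenMacaulayLocalRing (Y.presheaf.stalk y))
    (hcodim : ∀ y : Y, ringKrullDim (Y.presheaf.stalk y) + 2 = ringKrullDim (X.presheaf.stalk (ι.base y)))
    (y : Y) :
    ∃ U : X.affineOpens, ι.base y ∈ (U : X.Opens) ∧ ∃ (r : ℕ) (φ : Matrix (Fin (r + 1)) (Fin r) Γ(X, U)),
      Ideal.span (Set.range (minors φ)) = ι.ker.ideal U ∧ Function.Injective φ.mulVecLin ∧
        LinearMap.range φ.mulVecLin = LinearMap.ker (Fintype.linearCombination Γ(X, U) (minors φ)) ∧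
        McCoy.HasRegularPair (CAlgX.minorIdeal φ r) := by
  classical
  haveI : IsLocallyNoetherian X := LocallyOfFiniteType.isLocallyNoetherian f
  haveI := GrpSchLib.isRegularLocalRing_stalk_of_smooth f (ι y)
  let J : Ideal (X.presheaf.stalk (ι y)) := RingHom.ker (ι.stalkMap y).hom
  let e := RingHom.quotientKerEquivOfSurjective (f := (ι.stalkMap y).hom) (ι.stalkMap_surjective y)
  haveI : IsLocalRing (X.presheaf.stalk (ι y) ⧸ J) := e.symm.isLocalRing
  haveI := hCM y
  haveI : LocCoh.IsCohenMacaulayLocalRing (X.presheaf.stalk (ι y) ⧸ J) := LC.Liaison.isCMLocal_of_ringEquiv e.symm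
  obtain ⟨r, φ₀, hJ, -, -, -⟩ := exists_resolution_codim_two (X.presheaf.stalk (ι y)) J
    (by rw [ringKrullDim_eq_of_ringEquiv e]; exact hcodim y)
  obtain ⟨_, ⟨U, hU', rfl⟩, hx, -⟩ :=
    X.isBasis_affineOpens.exists_subset_of_mem_open (Set.mem_univ (ι y)) isOpen_univ
  have hU : IsAffineOpen U := hU'
  letI : Algebra Γ(X, U) (X.presheaf.stalk (ι y)) := (X.presheaf.germ U (ι y) hx).hom.toAlgebra
  haveI := hU.isLocalization_stalk ⟨ι y, hx⟩
  let p := (hU.primeIdealOf ⟨ι y, hx⟩).asIdeal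
  obtain ⟨b, hb⟩ := IsLocalization.exist_integer_multiples_of_finite p.primeCompl
    (fun il : Fin (r + 1) × Fin r => φ₀ il.1 il.2)
  choose ψ hψ using hb
  let φ₁ : Matrix (Fin (r + 1)) (Fin r) Γ(X, U) := Matrix.of fun i l => ψ (i, l)
  let c := algebraMap Γ(X, U) (X.presheaf.stalk (ι y)) b
  have hφ₁ : φ₁.map (algebraMap Γ(X, U) (X.presheaf.stalk (ι y))) = c • φ₀ := by
    ext i l
    exact (hψ (i, l)).trans (Algebra.smul_def _ _)
  have hcu : IsUnit (c ^ r) := (IsLocalization.map_units _ b).pow r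
  have hspan : (Ideal.span (Set.range (minors φ₁))).map (algebraMap Γ(X, U) (X.presheaf.stalk (ι y))) =
      (RingHom.ker (ι.app U).hom).map (algebraMap Γ(X, U) (X.presheaf.stalk (ι y))) := by
    rw [span_map_minors, hφ₁, RingHom.algebraMap_toAlgebra, ← RegImmLib.ker_stalkMap_eq_map ι hU y hx]
    refine Eq.trans ?_ hJ
    refine le_antisymm (Ideal.span_le.2 ?_) (Ideal.span_le.2 ?_)
    · rintro _ ⟨i, rfl⟩
      rw [minors_smul]
      exact Ideal.mul_mem_left _ _ (Ideal.subset_span ⟨i, rfl⟩)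
    · rintro _ ⟨i, rfl⟩
      obtain ⟨w, hw⟩ := hcu.exists_left_inv
      rw [show minors φ₀ i = w * minors (c • φ₀) i by rw [minors_smul, ← mul_assoc, hw, one_mul]]
      exact Ideal.mul_mem_left _ _ (Ideal.subset_span ⟨i, rfl⟩)
  haveI : IsNoetherianRing Γ(X, U) := IsLocallyNoetherian.component_noetherian ⟨U, hU⟩
  obtain ⟨g₁, hg₁, hg₁'⟩ := exists_mul_mem_of_map_le p.primeCompl (IsNoetherian.noetherian _) hspan.le
  obtain ⟨g₂, hg₂, hg₂'⟩ := exists_mul_mem_of_map_le p.primeCompl (IsNoetherian.noetherian _) hspan.ge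
  let g := g₁ * g₂
  have hgx : ι y ∈ X.basicOpen g := by
    rw [show ι y = hU.fromSpec (hU.primeIdealOf ⟨ι y, hx⟩) from (hU.fromSpec_primeIdealOf ⟨ι y, hx⟩).symm]
    show hU.primeIdealOf ⟨ι y, hx⟩ ∈ hU.fromSpec ⁻¹ᵁ X.basicOpen g
    rw [hU.fromSpec_preimage_basicOpen]
    exact p.primeCompl.mul_mem hg₁ hg₂
  let U₂ : X.affineOpens := X.affineBasicOpen (U := ⟨U, hU⟩) g
  have hgx' : ι y ∈ (U₂ : X.Opens) := hgx
  let res := (X.presheaf.map (homOfLE (X.basicOpen_le g)).op).hom
  have hgu : IsUnit (res g) := RingedSpace.isUnit_res_basicOpen _ g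
  have hkey : ∀ (I I' : Ideal Γ(X, U)), (∀ a ∈ I, g * a ∈ I') → I.map res ≤ I'.map res := by
    intro I I' h
    rw [Ideal.map_le_iff_le_comap]
    intro a ha
    have h1 : res g * res a ∈ I'.map res := by
      rw [← map_mul]; exact Ideal.mem_map_of_mem _ (h a ha)
    exact (Ideal.unit_mul_mem_iff_mem _ hgu).1 h1
  have hspan₂ : Ideal.span (Set.range (minors (φ₁.map res))) = ι.ker.ideal U₂ := by
    rw [← span_map_minors, ← ι.ker.map_ideal_basicOpen ⟨U, hU⟩ g, Scheme.Hom.ker_apply]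
    refine le_antisymm (hkey _ _ fun a ha => ?_) (hkey _ _ fun a ha => ?_)
    · show g₁ * g₂ * a ∈ _
      rw [mul_comm g₁, mul_assoc]; exact Ideal.mul_mem_left _ _ (hg₁' a ha)
    · show g₁ * g₂ * a ∈ _
      rw [mul_assoc]; exact Ideal.mul_mem_left _ _ (hg₂' a ha)
  -- the depth of the ideal
  have hU₂ : IsAffineOpen (U₂ : X.Opens) := U₂.2
  let R := Γ(X, (U₂ : X.Opens))
  have hsm : RingHom.Smooth ((Scheme.ΓSpecIso (CommRingCat.of k)).inv ≫
      f.appLE ⊤ U₂ le_top).hom := by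
    rw [CommRingCat.hom_comp]
    have h0 : (Scheme.ΓSpecIso (CommRingCat.of k)).inv.hom.Smooth :=
      RingHom.Smooth.of_bijective (ConcreteCategory.bijective_of_isIso _)
    exact RingHom.Smooth.comp h0 (f.smooth_appLE (isAffineOpen_top _) hU₂ le_top)
  letI : Algebra k R := ((Scheme.ΓSpecIso (CommRingCat.of k)).inv ≫ f.appLE ⊤ U₂ le_top).hom.toAlgebra
  haveI : Algebra.Smooth k R := hsm
  have hpair : McCoy.HasRegularPair (CAlgX.minorIdeal (φ₁.map res) r) := by
    refine hasRegularPair_of_height k R _ fun q hq hle => ?_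
    rw [McCoy.minorIdeal_eq_span_delta] at hle
    replace hle : ι.ker.ideal U₂ ≤ q := hspan₂ ▸ hle
    rw [Scheme.Hom.ker_apply] at hle
    have hV : IsAffineOpen (ι ⁻¹ᵁ (U₂ : X.Opens)) := hU₂.preimage ι
    have hs : Function.Surjective (ι.app U₂).hom := ι.app_surjective U₂ hU₂
    haveI hq' : (q.map (ι.app U₂).hom).IsPrime := Ideal.map_isPrime_of_surjective hs hle
    let y' : Y := hV.fromSpec ⟨q.map (ι.app U₂).hom, hq'⟩
    have hy' : y' ∈ ι ⁻¹ᵁ (U₂ : X.Opens) := by
      rw [← SetLike.mem_coe, ← hV.range_fromSpec]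
      exact Set.mem_range_self _
    have hprime : hV.primeIdealOf ⟨y', hy'⟩ = ⟨q.map (ι.app U₂).hom, hq'⟩ :=
      hV.fromSpec.isOpenEmbedding.injective (hV.fromSpec_primeIdealOf ⟨y', hy'⟩)
    have hq2 : (hU₂.primeIdealOf ⟨ι y', hy'⟩).asIdeal = q := by
      rw [← congrArg PrimeSpectrum.asIdeal
        (IsAffineOpen.comap_primeIdealOf_appLE (f := ι) U₂ hU₂ (ι ⁻¹ᵁ U₂) hV le_rfl hy'), hprime]
      show (q.map (ι.app U₂).hom).comap (ι.appLE U₂ (ι ⁻¹ᵁ U₂) le_rfl).hom = q
      rw [← Scheme.Hom.app_eq_appLE, Ideal.comap_map_of_surjective' _ hs, sup_eq_left]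
      exact hle
    letI : Algebra R (X.presheaf.stalk (ι y')) := (X.presheaf.germ U₂ (ι y') hy').hom.toAlgebra
    haveI hloc : IsLocalization.AtPrime (X.presheaf.stalk (ι y')) q := by
      have := hU₂.isLocalization_stalk ⟨ι y', hy'⟩
      show IsLocalization q.primeCompl _
      have e : q.primeCompl = (hU₂.primeIdealOf ⟨ι y', hy'⟩).asIdeal.primeCompl := by
        ext a; simp only [Ideal.mem_primeCompl_iff, hq2]
      rw [e]
      exact this
    have hdim := IsLocalization.AtPrime.ringKrullDim_eq_height q (X.presheaf.stalk (ι y'))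
    have h2 : (2 : WithBot ℕ∞) ≤ ringKrullDim (X.presheaf.stalk (ι y')) := by
      rw [← hcodim y']
      exact le_add_of_nonneg_left ringKrullDim_nonneg_of_nontrivial
    rw [hdim] at h2
    exact WithBot.coe_le_coe.1 h2
  refine ⟨U₂, hgx', r, φ₁.map res, hspan₂, ?_, le_antisymm ?_ fun v hv => ?_, hpair⟩
  · exact (McCoy.injective_iff _).2 (McCoy.annihilator_eq_bot_of_hasRegularPair hpair)
  · rintro _ ⟨x, rfl⟩
    exact linearCombination_minors_mulVec _ x
  · refine McCoy.mem_range_of_hasRegularPair _ hpair v ?_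
    rw [LinearMap.mem_ker, Fintype.linearCombination_apply] at hv
    rw [← hv]
    exact Finset.sum_congr rfl fun i _ => by rw [smul_eq_mul, mul_comm]; rfl

theorem exists_affine_resolution (k : Type u) [Field k]
    (X Y : Scheme.{u}) (f : X ⟶ Spec (CommRingCat.of k)) [Smooth f] (ι : Y ⟶ X) [IsClosedImmersion ι]
    (hCM : ∀ y : Y, LocCoh.IsCohenMacaulayLocalRing (Y.presheaf.stalk y))
    (hcodim : ∀ y : Y, ringKrullDim (Y.presheaf.stalk y) + 2 = ringKrullDim (X.presheaf.stalk (ι.base y)))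
    (y : Y) :
    ∃ U : X.affineOpens, ι.base y ∈ (U : X.Opens) ∧ ∃ (r : ℕ) (φ : Matrix (Fin (r + 1)) (Fin r) Γ(X, U)),
      Ideal.span (Set.range (minors φ)) = ι.ker.ideal U ∧ Function.Injective φ.mulVecLin ∧
        LinearMap.range φ.mulVecLin = LinearMap.ker (Fintype.linearCombination Γ(X, U) (minors φ)) := by
  obtain ⟨U, hU, r, φ, h₁, h₂, h₃, -⟩ := exists_affine_resolution_pair k X Y f ι hCM hcodim y
  exact ⟨U, hU, r, φ, h₁, h₂, h₃⟩

end Groth.Agent.H9DefT
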