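import Groth.Agent.LocalCrit.Flatness
import Mathlib.RingTheory.Flat.EquationalCriterion
import Mathlib.RingTheory.Artinian.Ring
import Mathlib.RingTheory.HopkinsLevitzki
import Mathlib.LinearAlgebra.Matrix.Determinant.Basic
import Mathlib.LinearAlgebra.Matrix.ToLin
import Mathlib.RingTheory.Ideal.Operations

/-!
Lifting exactness along a square zero extension: a three term complex of flat modules which is exact
modulo `J` with cokernel flat modulo `J` is exact with flat cokernel.
-/

set_option autoImplicit false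
set_option linter.style.haveILetI false
set_option backward.isDefEq.respectTransparency false
set_option backward.isDefEq.respectTransparency.types false

universe u

open TensorProduct

namespace Groth.Agent.H9DefT

variable {C : Type u} [CommRing C]

theorem exists_gens [IsLocalRing C] [IsNoetherianRing C] (J : Ideal C) :
    ∃ (n : ℕ) (j : Fin n → C), Ideal.span (Set.range j) = J ∧
      ∀ c : Fin n → C, ∑ t, c t * j t = 0 → ∀ t, c t ∈ IsLocalRing.maximalIdeal C := by
  classical
  have hex : ∃ n, ∃ j : Fin n → C, Ideal.span (Set.range j) = J := by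
    obtain ⟨n, j, hj⟩ := Submodule.fg_iff_exists_fin_generating_family.1 (IsNoetherian.noetherian J)
    exact ⟨n, j, hj⟩
  obtain ⟨j, hj⟩ := Nat.find_spec hex
  refine ⟨_, j, hj, fun c hc t => ?_⟩
  by_contra ht
  rw [IsLocalRing.notMem_maximalIdeal] at ht
  rcases hN : Nat.find hex with _ | m
  · exact absurd t.2 (by omega)
  · refine Nat.find_min hex (show m < Nat.find hex by omega) ⟨fun s => j (Fin.cast hN.symm ((Fin.cast hN t).succAbove s)), ?_⟩
    refine le_antisymm ?_ ?_
    · exact (Ideal.span_mono (Set.range_comp_subset_range (fun s => Fin.cast hN.symm ((Fin.cast hN t).succAbove s)) j)).trans hj.le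
    · refine hj.symm.le.trans ?_
      have hother : ∀ s, s ≠ t → j s ∈ Ideal.span (Set.range fun s => j (Fin.cast hN.symm ((Fin.cast hN t).succAbove s))) := by
        intro s hs
        obtain ⟨w, hw⟩ := Fin.exists_succAbove_eq (x := Fin.cast hN s) (y := Fin.cast hN t)
          (fun h => hs (Fin.cast_injective hN h))
        exact Ideal.subset_span ⟨w, by simp [hw]⟩
      rw [Ideal.span_le]
      rintro _ ⟨s, rfl⟩
      by_cases hs : s = t
      swap
      · exact hother s hs
      subst hs
      obtain ⟨v, hv⟩ := ht.exists_left_inv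
      rw [Fintype.sum_eq_add_sum_compl s] at hc
      have : j s = -(v * ∑ i ∈ {s}ᶜ, c i * j i) := by
        rw [show ∑ i ∈ {s}ᶜ, c i * j i = -(c s * j s) from eq_neg_of_add_eq_zero_right hc, mul_neg, neg_neg,
          ← mul_assoc, hv, one_mul]
      rw [SetLike.mem_coe, this]
      exact neg_mem (Ideal.mul_mem_left _ _ (Ideal.sum_mem _ fun i hi => Ideal.mul_mem_left _ _
        (hother i (by simpa using hi))))

section Modules

variable {n : ℕ} (j : Fin n → C) {P : Type u} [AddCommGroup P] [Module C P]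

theorem exists_sum_of_mem_smul {x : P} (hx : x ∈ Ideal.span (Set.range j) • (⊤ : Submodule C P)) :
    ∃ a : Fin n → P, ∑ t, j t • a t = x := by
  refine Submodule.smul_induction_on hx ?_ ?_
  · intro r hr m _
    obtain ⟨c, rfl⟩ := (Ideal.mem_span_range_iff_exists_fun).1 hr
    refine ⟨fun t => c t • m, ?_⟩
    rw [Finset.sum_smul]
    exact Finset.sum_congr rfl fun t _ => by rw [smul_smul, mul_comm]
  · intro x y hx hy
    obtain ⟨a, rfl⟩ := hx
    obtain ⟨b, rfl⟩ := hy
    exact ⟨a + b, by simp [smul_add, Finset.sum_add_distrib]⟩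

variable [IsLocalRing C]

theorem mem_maximal_smul_of_sum_eq_zero [Module.Flat C P]
    (hj : ∀ c : Fin n → C, ∑ t, c t * j t = 0 → ∀ t, c t ∈ IsLocalRing.maximalIdeal C)
    {a : Fin n → P} (h : ∑ t, j t • a t = 0) (t : Fin n) :
    a t ∈ IsLocalRing.maximalIdeal C • (⊤ : Submodule C P) := by
  obtain ⟨k, c, b, hab, hc⟩ := Module.Flat.isTrivialRelation_of_sum_smul_eq_zero h
  rw [hab t]
  refine Submodule.sum_mem _ fun u _ => Submodule.smul_mem_smul ?_ Submodule.mem_top
  exact hj (fun t => c t u) (by rw [← hc u]; exact Finset.sum_congr rfl fun _ _ => mul_comm _ _) t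

theorem smul_eq_zero_of_mem {J : Ideal C} (hJ : IsLocalRing.maximalIdeal C * J = ⊥) {r : C} (hr : r ∈ J) {x : P}
    (hx : x ∈ IsLocalRing.maximalIdeal C • (⊤ : Submodule C P)) : r • x = 0 := by
  refine Submodule.smul_induction_on hx ?_ ?_
  · intro a ha m _
    have h0 : r * a = 0 := by
      have : a * r ∈ (⊥ : Ideal C) := hJ ▸ Ideal.mul_mem_mul ha hr
      rwa [mul_comm, ← Ideal.mem_bot]
    rw [smul_smul, h0, zero_smul]
  · intro x y hx hy
    rw [smul_add, hx, hy, add_zero]

end Modules

/-- Exactness and flatness of the cokernel lift along a small extension. -/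
theorem lift_exact [IsLocalRing C] [IsArtinianRing C] {J : Ideal C} (hJ : IsLocalRing.maximalIdeal C * J = ⊥)
    (hJne : J ≠ ⊤) {P₁ P₂ P₃ Pb Q : Type u} [AddCommGroup P₁] [Module C P₁] [AddCommGroup P₂] [Module C P₂]
    [AddCommGroup P₃] [Module C P₃] [AddCommGroup Pb] [Module C Pb] [AddCommGroup Q] [Module C Q]
    [Module.Flat C P₁] [Module.Flat C P₂] [Module.Flat C P₃]
    (g : P₁ →ₗ[C] P₂) (ψ : P₂ →ₗ[C] P₃) (hψg : ∀ x, ψ (g x) = 0)
    (h1 : ∀ x, g x ∈ J • (⊤ : Submodule C P₂) → x ∈ J • (⊤ : Submodule C P₁))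
    (h2 : ∀ y, ψ y ∈ J • (⊤ : Submodule C P₃) → ∃ z, y - g z ∈ J • (⊤ : Submodule C P₂))
    (q : P₃ →ₗ[C] Pb) (hq : LinearMap.ker q = J • ⊤) (τ : Pb →ₗ[C] Pb)
    (hτ1 : ∀ y, τ (q (ψ y)) = q (ψ y)) (hτ2 : ∀ a, ∃ w, τ (q a) = q (ψ w))
    (π : P₃ →ₗ[C] Q) (hπ : Function.Surjective π) (hπk : LinearMap.ker π = LinearMap.range ψ) :
    Function.Injective g ∧ LinearMap.range g = LinearMap.ker ψ ∧ Module.Flat C Q := by
  classical
  let m := IsLocalRing.maximalIdeal C
  have hJm : J ≤ m := IsLocalRing.le_maximalIdeal hJne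
  choose w hw using hτ2
  haveI : IsNoetherianRing C := inferInstance
  obtain ⟨km, jm, hjm⟩ := Submodule.fg_iff_exists_fin_generating_family.1 (IsNoetherian.noetherian (R := C) (M := C) m)
  have hjm' : ∀ s, jm s ∈ m := fun s => hjm ▸ Submodule.subset_span ⟨s, rfl⟩
  have hkill : ∀ {P : Type u} [AddCommGroup P] [Module C P] (c : C), c ∈ m → ∀ x ∈ J • (⊤ : Submodule C P), c • x = 0 := by
    intro P _ _ c hc x hx
    refine Submodule.smul_induction_on hx ?_ ?_
    · intro a ha y _
      have h0 : c * a = 0 := Ideal.mem_bot.1 (hJ ▸ Ideal.mul_mem_mul hc ha)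
      rw [smul_smul, h0, zero_smul]
    · intro x y hx hy
      rw [smul_add, hx, hy, add_zero]
  have hq0 : ∀ a, q a = 0 ↔ a ∈ J • (⊤ : Submodule C P₃) := fun a => by rw [← hq, LinearMap.mem_ker]
  have h2m : ∀ y, ψ y ∈ m • (⊤ : Submodule C P₃) → ∃ z, y - g z ∈ m • (⊤ : Submodule C P₂) := by
    intro y hy
    obtain ⟨a, ha⟩ := exists_sum_of_mem_smul jm (by rw [show Ideal.span (Set.range jm) = m from hjm]; exact hy)
    have : ψ (y - ∑ s, jm s • w (a s)) ∈ J • (⊤ : Submodule C P₃) := by
      rw [← hq0, map_sub, map_sub, ← hτ1 y, ← ha, map_sum, map_sum, map_sum, map_sum, ← Finset.sum_sub_distrib]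
      refine Finset.sum_eq_zero fun s _ => ?_
      rw [map_smul, map_smul, map_smul, map_smul, hw, sub_self]
    obtain ⟨z, hz⟩ := h2 _ this
    refine ⟨z, ?_⟩
    have := Submodule.add_mem _ (Submodule.smul_mono_left hJm hz) (Submodule.sum_mem _
      (fun s (_ : s ∈ Finset.univ) => Submodule.smul_mem_smul (N := (⊤ : Submodule C P₂)) (hjm' s)
        (Submodule.mem_top (x := w (a s)))))
    rwa [sub_right_comm, sub_add_cancel] at this
  have h1m : ∀ x, g x ∈ m • (⊤ : Submodule C P₂) → x ∈ m • (⊤ : Submodule C P₁) := by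
    intro x hx
    obtain ⟨y, hy⟩ := exists_sum_of_mem_smul jm (by rw [show Ideal.span (Set.range jm) = m from hjm]; exact hx)
    have h0 : ∑ s, jm s • ψ (y s) = 0 := by
      have := congrArg ψ hy
      rw [hψg, map_sum] at this
      simpa only [map_smul] using this
    obtain ⟨k, c, b, hb, hc⟩ := Module.Flat.isTrivialRelation_of_sum_smul_eq_zero h0
    have hmem : ∀ s, ψ (y s - ∑ u, c s u • w (b u)) ∈ J • (⊤ : Submodule C P₃) := fun s => by
      rw [← hq0, map_sub, map_sub, ← hτ1 (y s), show ψ (y s) = ∑ u, c s u • b u from hb s, map_sum, map_sum, map_sum, map_sum, ← Finset.sum_sub_distrib]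
      refine Finset.sum_eq_zero fun u _ => ?_
      rw [map_smul, map_smul, map_smul, map_smul, hw, sub_self]
    choose z hz using fun s => h2 _ (hmem s)
    have hgx : g (x - ∑ s, jm s • z s) = 0 := by
      have e1 : ∑ s, jm s • (y s - ∑ u, c s u • w (b u) - g (z s)) = 0 :=
        Finset.sum_eq_zero fun s _ => hkill _ (hjm' s) _ (hz s)
      have e2 : ∑ s, jm s • ∑ u, c s u • w (b u) = 0 := by
        simp only [Finset.smul_sum, smul_smul]
        rw [Finset.sum_comm]
        refine Finset.sum_eq_zero fun u _ => ?_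
        rw [← Finset.sum_smul, show ∑ s, jm s * c s u = 0 from hc u, zero_smul]
      simp only [smul_sub, Finset.sum_sub_distrib, e2, sub_zero, hy] at e1
      simpa only [map_sub, map_sum, map_smul] using e1
    have h3 : x - ∑ s, jm s • z s ∈ J • (⊤ : Submodule C P₁) := h1 _ (by rw [hgx]; exact zero_mem _)
    have := Submodule.add_mem _ (Submodule.smul_mono_left hJm h3) (Submodule.sum_mem _
      (fun s (_ : s ∈ Finset.univ) => Submodule.smul_mem_smul (N := (⊤ : Submodule C P₁)) (hjm' s)
        (Submodule.mem_top (x := z s))))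
    rwa [sub_add_cancel] at this
  obtain ⟨n, j, hjJ, hj⟩ := exists_gens J
  have hjmem : ∀ t, j t ∈ J := fun t => hjJ ▸ Ideal.subset_span ⟨t, rfl⟩
  refine ⟨(injective_iff_map_eq_zero g).2 fun x hx => ?_, le_antisymm ?_ ?_, ?_⟩
  · obtain ⟨a, rfl⟩ := exists_sum_of_mem_smul j (hjJ.symm ▸ h1 x (hx ▸ zero_mem _))
    rw [map_sum] at hx
    simp only [map_smul] at hx
    exact Finset.sum_eq_zero fun t _ => smul_eq_zero_of_mem hJ (hjmem t)
      (h1m _ (mem_maximal_smul_of_sum_eq_zero j hj hx t))
  · rintro _ ⟨x, rfl⟩; exact hψg x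
  · intro y hy
    obtain ⟨z, hz⟩ := h2 y (by rw [show ψ y = 0 from hy]; exact zero_mem _)
    obtain ⟨a, ha⟩ := exists_sum_of_mem_smul j (hjJ.symm ▸ hz)
    have h0 : ∑ t, j t • ψ (a t) = 0 := by
      have := congrArg ψ ha
      rw [map_sum, map_sub, show ψ y = 0 from hy, hψg, sub_zero] at this
      simpa only [map_smul] using this
    choose z' hz' using fun t => h2m _ (mem_maximal_smul_of_sum_eq_zero j hj h0 t)
    refine ⟨z + ∑ t, j t • z' t, ?_⟩
    have e : ∑ t, j t • (a t - g (z' t)) = 0 :=
      Finset.sum_eq_zero fun t _ => smul_eq_zero_of_mem hJ (hjmem t) (hz' t)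
    simp only [smul_sub, Finset.sum_sub_distrib, ha] at e
    rw [map_add, map_sum]
    simp only [map_smul]
    exact (eq_add_of_sub_eq' (sub_eq_zero.1 e)).symm
  · haveI : (m : Ideal C).IsMaximal := IsLocalRing.maximalIdeal.isMaximal C
    refine LocalCrit.flat_of_isNilpotent m Q ?_ ((injective_iff_map_eq_zero _).2 fun x hx => ?_)
      (LocalCrit.keepsInjective_of_isMaximal m Q)
    · have := IsArtinianRing.isNilpotent_jacobson_bot (R := C)
      rwa [IsLocalRing.jacobson_eq_maximalIdeal ⊥ bot_ne_top] at this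
    obtain ⟨xt, rfl⟩ := LinearMap.lTensor_surjective (↥m) hπ x
    let μ : ∀ (P : Type u) [AddCommGroup P] [Module C P], ↥m ⊗[C] P →ₗ[C] P := fun P _ _ =>
      (TensorProduct.lid C P).toLinearMap ∘ₗ m.subtype.rTensor P
    have hnat : ∀ {P P' : Type u} [AddCommGroup P] [Module C P] [AddCommGroup P'] [Module C P'] (f : P →ₗ[C] P')
        (e : ↥m ⊗[C] P), μ P' (f.lTensor _ e) = f (μ P e) := fun f e => by
      induction e using TensorProduct.induction_on with
      | zero => simp
      | tmul a b => simp [μ]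
      | add a b ha hb => simp only [map_add, ha, hb]
    have h0 : π (μ P₃ xt) = 0 := by
      rw [← hnat]
      simp only [μ, LinearMap.comp_apply, hx, map_zero]
    obtain ⟨y, hy⟩ : μ P₃ xt ∈ LinearMap.range ψ := hπk ▸ h0
    have hrange : ∀ (P : Type u) [AddCommGroup P] [Module C P] (e : ↥m ⊗[C] P), μ P e ∈ m • (⊤ : Submodule C P) := by
      intro P _ _ e
      induction e using TensorProduct.induction_on with
      | zero => simp
      | tmul a b => simpa [μ] using Submodule.smul_mem_smul a.2 (Submodule.mem_top (x := b))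
      | add a b ha hb => rw [map_add]; exact add_mem ha hb
    obtain ⟨z, hz⟩ := h2m y (by rw [hy]; exact hrange _ _)
    obtain ⟨e, he⟩ : y - g z ∈ LinearMap.range (μ P₂) := by
      refine Submodule.smul_induction_on hz ?_ ?_
      · intro a ha b _
        exact ⟨⟨a, ha⟩ ⊗ₜ b, by simp [μ]⟩
      · intro a b ha hb
        exact add_mem ha hb
    have hinj : Function.Injective (μ P₃) :=
      (TensorProduct.lid C P₃).injective.comp (Module.Flat.rTensor_preserves_injective_linearMap m.subtype m.injective_subtype)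
    have hxt : ψ.lTensor _ e = xt := hinj (by rw [hnat, he, map_sub, hψg, sub_zero, hy])
    rw [← hxt, ← LinearMap.lTensor_comp_apply,
      show π ∘ₗ ψ = 0 from LinearMap.ext fun v => (hπk ▸ ⟨v, rfl⟩ : ψ v ∈ LinearMap.ker π),
      LinearMap.lTensor_zero, LinearMap.zero_apply]

section Minors

variable {R : Type u} [CommRing R] {r : ℕ}

/-- The signed maximal minors. -/
abbrev minors (φ : Matrix (Fin (r + 1)) (Fin r) R) : Fin (r + 1) → R :=
  fun i => (-1 : R) ^ (i : ℕ) * (φ.submatrix i.succAbove id).det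

theorem linearCombination_minors_mulVec (φ : Matrix (Fin (r + 1)) (Fin r) R) (x : Fin r → R) :
    Fintype.linearCombination R (minors φ) (φ.mulVecLin x) = 0 := by
  have h : ∀ l : Fin r, ∑ i, φ i l * minors φ i = 0 := by
    intro l
    let M : Matrix (Fin (r + 1)) (Fin (r + 1)) R := Matrix.of fun i => Fin.cons (φ i l) (φ i)
    have hM : M.det = 0 := Matrix.det_zero_of_column_eq (i := 0) (j := l.succ) (Fin.succ_ne_zero l).symm
      (fun i => by simp [M])
    rw [Matrix.det_succ_column_zero] at hM
    refine Eq.trans ?_ hM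
    refine Finset.sum_congr rfl fun i _ => ?_
    have e : M.submatrix i.succAbove Fin.succ = φ.submatrix i.succAbove id := by
      ext a b; simp [M]
    rw [e, show M i 0 = φ i l from rfl]
    simp only [minors]
    ring
  rw [Fintype.linearCombination_apply]
  simp only [Matrix.mulVecLin_apply, Matrix.mulVec, dotProduct, smul_eq_mul, Finset.sum_mul]
  rw [Finset.sum_comm]
  refine Finset.sum_eq_zero fun l _ => ?_
  calc ∑ i, φ i l * x l * minors φ i = x l * ∑ i, φ i l * minors φ i := by
        rw [Finset.mul_sum]; exact Finset.sum_congr rfl fun i _ => by ring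
    _ = 0 := by rw [h l, mul_zero]

theorem map_minors {S : Type u} [CommRing S] (f : R →+* S) (φ : Matrix (Fin (r + 1)) (Fin r) R) (i : Fin (r + 1)) :
    f (minors φ i) = minors (φ.map f) i := by
  simp only [minors, map_mul, map_pow, map_neg, map_one, RingHom.map_det]
  rfl

end Minors

theorem mem_smul_pi_iff {A : Type u} [CommRing A] [Algebra C A] (J : Ideal C) {ι : Type} [Fintype ι] [DecidableEq ι]
    (x : ι → A) : x ∈ J • (⊤ : Submodule C (ι → A)) ↔ ∀ i, x i ∈ J.map (algebraMap C A) := by
  constructor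
  · intro hx i
    refine Submodule.smul_induction_on hx ?_ ?_
    · intro a ha y _
      rw [Pi.smul_apply, Algebra.smul_def]
      exact Ideal.mul_mem_right _ _ (Ideal.mem_map_of_mem _ ha)
    · intro a b ha hb
      exact Ideal.add_mem _ ha hb
  · intro hx
    rw [← Finset.univ_sum_single x]
    refine Submodule.sum_mem _ fun i _ => ?_
    have h : x i ∈ J • (⊤ : Submodule C A) := by rw [Ideal.smul_top_eq_map]; exact hx i
    have := Submodule.mem_map_of_mem (f := LinearMap.single C (fun _ : ι => A) i) h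
    rw [Submodule.map_smul''] at this
    exact Submodule.smul_mono le_rfl le_top this

/-- The lifting statement for matrices of presentations by maximal minors. -/
theorem maximalMinors_lift [IsLocalRing C] [IsArtinianRing C] (J : Ideal C)
    (hJ : IsLocalRing.maximalIdeal C * J = ⊥) (hJne : J ≠ ⊤) (A : Type u) [CommRing A] [Algebra C A]
    [Module.Flat C A] (r : ℕ) (φ : Matrix (Fin (r + 1)) (Fin r) A)
    (hinj : Function.Injective (φ.map (Ideal.Quotient.mk (J.map (algebraMap C A)))).mulVecLin)
    (hex : LinearMap.ker (Fintype.linearCombination (A ⧸ J.map (algebraMap C A))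
        (minors (φ.map (Ideal.Quotient.mk (J.map (algebraMap C A)))))) ≤
      LinearMap.range (φ.map (Ideal.Quotient.mk (J.map (algebraMap C A)))).mulVecLin)
    [Module.Free (C ⧸ J) ((A ⧸ J.map (algebraMap C A)) ⧸
      Ideal.span (Set.range (minors (φ.map (Ideal.Quotient.mk (J.map (algebraMap C A)))))))] :
    Function.Injective φ.mulVecLin ∧
      LinearMap.range φ.mulVecLin = LinearMap.ker (Fintype.linearCombination A (minors φ)) ∧
      Module.Flat C (A ⧸ Ideal.span (Set.range (minors φ))) := by
  classical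
  let JA := J.map (algebraMap C A)
  let mk : A →+* A ⧸ JA := Ideal.Quotient.mk JA
  have hmk : ∀ (k : ℕ) (x : Fin k → A), x ∈ J • (⊤ : Submodule C (Fin k → A)) ↔ (fun i => mk (x i)) = 0 := by
    intro k x
    rw [mem_smul_pi_iff, funext_iff]
    exact forall_congr' fun i => Ideal.Quotient.eq_zero_iff_mem.symm
  have hmulVec : ∀ x : Fin r → A, (fun i => mk (φ.mulVec x i)) = (φ.map mk).mulVec (fun i => mk (x i)) :=
    fun x => funext fun i => RingHom.map_mulVec mk φ x i
  haveI : ∀ k : ℕ, Module.Flat C (Fin k → A) := fun k => Module.Flat.trans C A (Fin k → A)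
  have hlc : ∀ y : Fin (r + 1) → A, mk (Fintype.linearCombination A (minors φ) y) =
      Fintype.linearCombination (A ⧸ JA) (minors (φ.map mk)) (fun i => mk (y i)) := fun y => by
    simp only [Fintype.linearCombination_apply, smul_eq_mul, map_sum]
    exact Finset.sum_congr rfl fun i _ => (map_mul mk _ _).trans (congrArg _ (map_minors mk φ i))
  let I := Ideal.span (Set.range (minors φ))
  let Ib := Ideal.span (Set.range (minors (φ.map mk)))
  obtain ⟨s, hs⟩ := Module.projective_lifting_property (R := C ⧸ J)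
    ((Submodule.mkQ Ib).restrictScalars (C ⧸ J)) (LinearMap.id (R := C ⧸ J) (M := (A ⧸ JA) ⧸ Ib))
    (Submodule.mkQ_surjective Ib)
  let q : A →ₗ[C] A ⧸ JA := (Submodule.mkQ JA).restrictScalars C
  let p : (A ⧸ JA) →ₗ[C] (A ⧸ JA) ⧸ Ib := (Submodule.mkQ Ib).restrictScalars C
  let s' : ((A ⧸ JA) ⧸ Ib) →ₗ[C] (A ⧸ JA) := s.restrictScalars C
  have hs' : ∀ v, p (s' v) = v := fun v => congrArg (fun f => f v) hs
  let τ : (A ⧸ JA) →ₗ[C] (A ⧸ JA) := LinearMap.id - s'.comp p
  obtain ⟨h1, h2, h3⟩ := lift_exact hJ hJne (φ.mulVecLin.restrictScalars C)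
    ((Fintype.linearCombination A (minors φ)).restrictScalars C)
    (fun x => linearCombination_minors_mulVec φ x)
    (fun x hx => by
      rw [hmk] at hx ⊢
      refine hinj ?_
      rw [map_zero, Matrix.mulVecLin_apply, ← hmulVec]
      exact hx)
    (fun y hy => by
      rw [Ideal.smul_top_eq_map] at hy
      have h0 : (fun i => mk (y i)) ∈ LinearMap.range (φ.map mk).mulVecLin :=
        hex (LinearMap.mem_ker.2 ((hlc y).symm.trans (Ideal.Quotient.eq_zero_iff_mem.2 hy)))
      obtain ⟨zb, hzb⟩ := h0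
      choose z hz using fun i => Ideal.Quotient.mk_surjective (zb i)
      refine ⟨z, (hmk _ _).2 (funext fun i => ?_)⟩
      simp only [Pi.sub_apply, LinearMap.coe_restrictScalars, Matrix.mulVecLin_apply, map_sub, Pi.zero_apply]
      rw [sub_eq_zero, ← congrFun hzb i, Matrix.mulVecLin_apply, congrFun (hmulVec z) i]
      simp only [mk, hz])
    q (by rw [LinearMap.ker_restrictScalars, Submodule.ker_mkQ, Ideal.smul_top_eq_map])
    τ (fun y => by
      have hy : p (q (Fintype.linearCombination A (minors φ) y)) = 0 := by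
        refine (Submodule.Quotient.mk_eq_zero _).2 ?_
        show mk _ ∈ Ib
        rw [hlc, Fintype.linearCombination_apply]
        exact Ideal.sum_mem _ fun i _ => Ideal.mul_mem_left _ _ (Ideal.subset_span ⟨i, rfl⟩)
      simp only [τ, LinearMap.sub_apply, LinearMap.id_apply, LinearMap.comp_apply, LinearMap.coe_restrictScalars]
      rw [hy, map_zero, sub_zero])
    (fun a => by
      have hmem : τ (q a) ∈ Ib := by
        rw [← Submodule.Quotient.mk_eq_zero]
        show p (q a - s' (p (q a))) = 0
        rw [map_sub, hs', sub_self]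
      obtain ⟨c, hc⟩ := Ideal.mem_span_range_iff_exists_fun.1 hmem
      choose c' hc' using fun i => Ideal.Quotient.mk_surjective (c i)
      refine ⟨c', hc.symm.trans ?_⟩
      show _ = mk (Fintype.linearCombination A (minors φ) c')
      rw [hlc, Fintype.linearCombination_apply]
      simp only [mk, hc', smul_eq_mul])
    ((Submodule.mkQ I).restrictScalars C) (Submodule.mkQ_surjective I)
    (by rw [LinearMap.ker_restrictScalars, Submodule.ker_mkQ, LinearMap.range_restrictScalars,
      Fintype.range_linearCombination])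
  refine ⟨h1, ?_, h3⟩
  rw [LinearMap.range_restrictScalars, LinearMap.ker_restrictScalars] at h2
  exact (Submodule.restrictScalars_inj C _ _).1 h2

end Groth.Agent.H9DefT
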