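import Groth.Agent.H9DefT.LiftExact
import Groth.Agent.McCoy.HilbertBurch
import Groth.Agent.LC.Annihilator
import Groth.Agent.DiagThree.Sym

/-!
Flat deformations of ideals of maximal minors over Artinian bases.
-/

set_option autoImplicit false
set_option linter.style.haveILetI false
set_option backward.isDefEq.respectTransparency false
set_option backward.isDefEq.respectTransparency.types false

universe u

open IsLocalRing

namespace Groth.Agent.H9DefT

section Base

variable {C : Type u} [CommRing C] [IsLocalRing C] [IsNoetherianRing C]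

/-- The successive approximation step. -/
theorem exists_decomp {P P' : Type u} [AddCommGroup P] [Module C P] [AddCommGroup P'] [Module C P']
    [Module.Flat C P'] (f : P →ₗ[C] P') (K : Ideal C) {x : P} (hx : x ∈ K • (⊤ : Submodule C P)) (hf : f x = 0) :
    ∃ (n : ℕ) (j : Fin n → C) (e : Fin n → P), (∀ t, j t ∈ K) ∧ ∑ t, j t • e t = x ∧
      ∀ t, f (e t) ∈ maximalIdeal C • (⊤ : Submodule C P') := by
  obtain ⟨n, j, hjK, hj⟩ := exists_gens K
  obtain ⟨e, he⟩ := exists_sum_of_mem_smul j (hjK.symm ▸ hx)
  refine ⟨n, j, e, fun t => hjK ▸ Ideal.subset_span ⟨t, rfl⟩, he,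
    fun t => mem_maximal_smul_of_sum_eq_zero (a := fun t => f (e t)) j hj ?_ t⟩
  rw [← he, map_sum] at hf
  simpa only [map_smul] using hf

theorem smul_mem_mul {P : Type u} [AddCommGroup P] [Module C P] {K L : Ideal C} {a : C} (ha : a ∈ K) {x : P}
    (hx : x ∈ L • (⊤ : Submodule C P)) : a • x ∈ (K * L) • (⊤ : Submodule C P) := by
  rw [Submodule.mul_smul]
  exact Submodule.smul_mem_smul ha hx

variable {A : Type u} [CommRing A] [Algebra C A]

theorem mem_smul_top_iff (K : Ideal C) (a : A) :
    a ∈ K • (⊤ : Submodule C A) ↔ a ∈ K.map (algebraMap C A) := by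
  rw [Ideal.smul_top_eq_map]; rfl

set_option maxHeartbeats 800000 in
/-- A flat quotient meets `K A` in `K I`. -/
theorem inf_le_mul (I : Ideal A) [Module.Flat C (A ⧸ I)] (K : Ideal C) :
    I ⊓ K.map (algebraMap C A) ≤ K.map (algebraMap C A) * I := by
  rintro a ⟨haI, haK⟩
  obtain ⟨n, j, hjK, -⟩ := exists_gens K
  obtain ⟨e, he⟩ := exists_sum_of_mem_smul j (hjK.symm ▸ (mem_smul_top_iff K a).2 haK)
  let π : A →ₗ[C] A ⧸ I := (Ideal.Quotient.mkₐ C I).toLinearMap
  have h0 : ∑ t, j t • π (e t) = 0 := by
    have hz : π a = 0 := Ideal.Quotient.eq_zero_iff_mem.2 haI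
    rw [← he, map_sum] at hz
    simpa only [map_smul] using hz
  obtain ⟨k, c, b, hb, hc⟩ := Module.Flat.isTrivialRelation_of_sum_smul_eq_zero (R := C) (M := A ⧸ I) (f := j) (x := fun t => π (e t)) h0
  choose b' hb' using fun u => Ideal.Quotient.mk_surjective (I := I) (b u)
  have hi : ∀ t, e t - ∑ u, c t u • b' u ∈ I := fun t => by
    rw [← Ideal.Quotient.eq_zero_iff_mem]
    show π _ = 0
    rw [map_sub, show π (e t) = ∑ u, c t u • b u from hb t, map_sum]
    rw [sub_eq_zero]
    exact Finset.sum_congr rfl fun u _ => by rw [map_smul]; exact congrArg (c t u • ·) (hb' u).symm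
  have ha : a = ∑ t, j t • (e t - ∑ u, c t u • b' u) := by
    simp only [smul_sub, Finset.sum_sub_distrib, he, Finset.smul_sum, smul_smul]
    rw [Finset.sum_comm (f := fun t u => (j t * c t u) • b' u)]
    simp only [← Finset.sum_smul, show ∀ u, ∑ t, j t * c t u = 0 from hc, zero_smul, Finset.sum_const_zero,
      sub_zero]
  rw [ha]
  refine Ideal.sum_mem _ fun t _ => ?_
  rw [Algebra.smul_def]
  exact Ideal.mul_mem_mul (Ideal.mem_map_of_mem _ (hjK ▸ Ideal.subset_span ⟨t, rfl⟩)) (hi t)

end Base

/-- A row vector killed by a matrix whose minors contain a regular pair is a multiple of the minors. -/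
theorem exists_eq_mul_delta {R : Type u} [CommRing R] {t : ℕ} (Ψ : Matrix (Fin (t + 1)) (Fin t) R)
    (h : McCoy.HasRegularPair (CAlgX.minorIdeal Ψ t)) (e : Fin (t + 1) → R)
    (he : ∀ l, ∑ i, e i * Ψ i l = 0) : ∃ u, ∀ i, e i = u * McCoy.delta Ψ i := by
  classical
  have hann := McCoy.annihilator_eq_bot_of_hasRegularPair h
  have hcross : ∀ i k, McCoy.delta Ψ k * e i = McCoy.delta Ψ i * e k := by
    intro i k
    let v : Fin (t + 1) → R := McCoy.delta Ψ k • Pi.single i 1 - McCoy.delta Ψ i • Pi.single k 1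
    have hv : ∑ a, McCoy.delta Ψ a * v a = 0 := by
      simp only [v, Pi.sub_apply, Pi.smul_apply, smul_eq_mul, mul_sub, Pi.single_apply, mul_ite, mul_one, mul_zero,
        Finset.sum_sub_distrib, Finset.sum_ite_eq', Finset.mem_univ, if_true]
      rw [mul_comm, sub_self]
    obtain ⟨w, hw⟩ := McCoy.mem_range_of_hasRegularPair Ψ h v hv
    have h0 : ∑ a, e a * v a = 0 := by
      rw [← hw]
      simp only [Matrix.mulVecLin_apply, Matrix.mulVec, dotProduct, Finset.mul_sum]
      rw [Finset.sum_comm]
      refine Finset.sum_eq_zero fun l _ => ?_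
      simp only [← mul_assoc, ← Finset.sum_mul, he l, zero_mul]
    simp only [v, Pi.sub_apply, Pi.smul_apply, smul_eq_mul, mul_sub, Pi.single_apply, mul_ite, mul_one, mul_zero,
      Finset.sum_sub_distrib, Finset.sum_ite_eq', Finset.mem_univ, if_true] at h0
    rw [sub_eq_zero] at h0
    rw [mul_comm, h0, mul_comm]
  have hlin : ∀ x ∈ CAlgX.minorIdeal Ψ t, ∃ p, ∀ i, x * e i = McCoy.delta Ψ i * p := by
    intro x hx
    rw [McCoy.minorIdeal_eq_span_delta] at hx
    obtain ⟨c, rfl⟩ := Ideal.mem_span_range_iff_exists_fun.1 hx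
    refine ⟨∑ k, c k * e k, fun i => ?_⟩
    rw [Finset.sum_mul, Finset.mul_sum]
    refine Finset.sum_congr rfl fun k _ => ?_
    rw [mul_assoc, hcross i k]; ring
  rcases h with htop | ⟨x, hxI, y, hyI, hx, hy⟩
  · obtain ⟨p, hp⟩ := hlin 1 (htop ▸ Submodule.mem_top)
    exact ⟨p, fun i => by rw [mul_comm, ← hp i, one_mul]⟩
  · obtain ⟨p, hp⟩ := hlin x hxI
    obtain ⟨q, hq⟩ := hlin y hyI
    have hpq : y * p = x * q := by
      rw [← sub_eq_zero, ← Ideal.mem_bot, ← hann, Submodule.mem_annihilator]
      intro z hz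
      rw [McCoy.minorIdeal_eq_span_delta] at hz
      obtain ⟨c, rfl⟩ := Ideal.mem_span_range_iff_exists_fun.1 hz
      rw [smul_eq_mul, Finset.mul_sum]
      refine Finset.sum_eq_zero fun i _ => ?_
      have e1 : y * (McCoy.delta Ψ i * p) = x * (McCoy.delta Ψ i * q) := by rw [← hp i, ← hq i]; ring
      linear_combination c i * e1
    obtain ⟨u, rfl⟩ := hy p ⟨q, hpq⟩
    refine ⟨u, fun i => (mul_cancel_left_mem_nonZeroDivisors hx).1 ?_⟩
    rw [hp i]; ring

/-- The signed minors are orthogonal to the columns. -/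
theorem sum_minors_mul {R : Type u} [CommRing R] {r : ℕ} (φ : Matrix (Fin (r + 1)) (Fin r) R) (l : Fin r) :
    ∑ i, minors φ i * φ i l = 0 :=
  S12906.result r φ l

section Lift

variable {C : Type u} [CommRing C] [IsLocalRing C] [IsArtinianRing C] {A : Type u} [CommRing A] [Algebra C A]

theorem exists_maximal_pow_eq_bot : ∃ n : ℕ, (maximalIdeal C) ^ n = ⊥ := by
  obtain ⟨n, hn⟩ := IsArtinianRing.isNilpotent_jacobson_bot (R := C)
  rw [IsLocalRing.jacobson_eq_maximalIdeal ⊥ bot_ne_top] at hn
  exact ⟨n, hn⟩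

/-- A flat deformation of an ideal of maximal minors is the ideal of maximal minors of a deformed matrix,
when the minors of the special fibre contain a regular pair. -/
theorem exists_lift_matrix [Module.Flat C A] (J : Ideal C) (hJne : J ≠ ⊤) {r : ℕ}
    (φ : Matrix (Fin (r + 1)) (Fin r) (A ⧸ J.map (algebraMap C A))) (I : Ideal A) [Module.Flat C (A ⧸ I)]
    (hI : I.map (Ideal.Quotient.mk (J.map (algebraMap C A))) = Ideal.span (Set.range (minors φ)))
    (hpair : ∀ φ' : Matrix (Fin (r + 1)) (Fin r) A, φ'.map (Ideal.Quotient.mk (J.map (algebraMap C A))) = φ →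
      McCoy.HasRegularPair (CAlgX.minorIdeal (φ'.map (Ideal.Quotient.mk ((maximalIdeal C).map (algebraMap C A)))) r)) :
    ∃ φ' : Matrix (Fin (r + 1)) (Fin r) A, φ'.map (Ideal.Quotient.mk (J.map (algebraMap C A))) = φ ∧
      I = Ideal.span (Set.range (minors φ')) := by
  classical
  haveI : IsNoetherianRing C := inferInstance
  let JA := J.map (algebraMap C A)
  let mk : A →+* A ⧸ JA := Ideal.Quotient.mk JA
  have hJm : J ≤ maximalIdeal C := IsLocalRing.le_maximalIdeal hJne
  obtain ⟨N, hN⟩ := exists_maximal_pow_eq_bot (C := C)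
  have hJAnil : JA ^ N = ⊥ := by
    rw [← Ideal.map_pow, eq_bot_iff]
    refine (Ideal.map_mono ((Ideal.pow_right_mono hJm N).trans hN.le)).trans ?_
    rw [Ideal.map_bot]
  -- lift the generators
  have hlift : ∀ i, ∃ g ∈ I, mk g = minors φ i := fun i =>
    (Ideal.mem_map_iff_of_surjective mk Ideal.Quotient.mk_surjective).1 (hI ▸ Ideal.subset_span ⟨i, rfl⟩)
  choose g hgI hg using hlift
  have hIg : I ≤ Ideal.span (Set.range g) := by
    have step : I ≤ Ideal.span (Set.range g) ⊔ JA * I := by
      intro a ha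
      obtain ⟨c, hc⟩ := Ideal.mem_span_range_iff_exists_fun.1 (hI ▸ Ideal.mem_map_of_mem mk ha)
      choose c' hc' using fun i => Ideal.Quotient.mk_surjective (c i)
      refine Submodule.mem_sup.2 ⟨∑ i, c' i * g i, Ideal.sum_mem _ fun i _ =>
        Ideal.mul_mem_left _ _ (Ideal.subset_span ⟨i, rfl⟩), a - ∑ i, c' i * g i, inf_le_mul I J ⟨?_, ?_⟩,
        add_sub_cancel _ _⟩
      · exact sub_mem ha (Ideal.sum_mem _ fun i _ => Ideal.mul_mem_left _ _ (hgI i))
      · rw [SetLike.mem_coe, ← Ideal.Quotient.eq_zero_iff_mem]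
        show mk _ = 0
        rw [map_sub, map_sum, ← hc, sub_eq_zero]
        exact Finset.sum_congr rfl fun i _ => by rw [map_mul, hg i]; simp only [mk, hc']
    have : ∀ k : ℕ, I ≤ Ideal.span (Set.range g) ⊔ JA ^ k * I := by
      intro k
      induction k with
      | zero => simp
      | succ k ih =>
        refine step.trans (sup_le le_sup_left ?_)
        refine (Ideal.mul_mono_right ih).trans ?_
        rw [Ideal.mul_sup, pow_succ', mul_assoc]
        exact sup_le (le_sup_of_le_left Ideal.mul_le_right) le_sup_right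
    have := this N
    rwa [hJAnil, Ideal.bot_mul, sup_bot_eq] at this
  have hgspan : I = Ideal.span (Set.range g) :=
    le_antisymm hIg (Ideal.span_le.2 (by rintro _ ⟨i, rfl⟩; exact hgI i))
  -- lift the relations
  choose ψ hψ using fun (i : Fin (r + 1)) (l : Fin r) => Ideal.Quotient.mk_surjective (φ i l)
  have hcol : ∀ l, ∃ b : Fin (r + 1) → A, (∀ i, b i ∈ JA) ∧ ∑ i, b i * g i = ∑ i, ψ i l * g i := by
    intro l
    have h1 : ∑ i, ψ i l * g i ∈ JA * I := by
      refine inf_le_mul I J ⟨Ideal.sum_mem _ fun i _ => Ideal.mul_mem_left _ _ (hgI i), ?_⟩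
      rw [SetLike.mem_coe, ← Ideal.Quotient.eq_zero_iff_mem]
      show mk _ = 0
      rw [map_sum, ← sum_minors_mul φ l]
      exact Finset.sum_congr rfl fun i _ => by rw [map_mul, hg i, mul_comm, show mk (ψ i l) = φ i l from hψ i l]
    refine Submodule.mul_induction_on h1 ?_ ?_
    · intro x hx y hy
      rw [hgspan] at hy
      obtain ⟨c, rfl⟩ := Ideal.mem_span_range_iff_exists_fun.1 hy
      exact ⟨fun i => x * c i, fun i => Ideal.mul_mem_right _ _ hx, by simp [Finset.mul_sum, mul_assoc]⟩
    · rintro x y ⟨b, hb, rfl⟩ ⟨b', hb', rfl⟩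
      exact ⟨b + b', fun i => add_mem (hb i) (hb' i), by simp [add_mul, Finset.sum_add_distrib]⟩
  choose b hbJ hb using hcol
  let φ' : Matrix (Fin (r + 1)) (Fin r) A := Matrix.of fun i l => ψ i l - b l i
  have hφ' : φ'.map mk = φ := by
    ext i l
    simp only [φ', Matrix.map_apply, Matrix.of_apply, map_sub]
    rw [show mk (b l i) = 0 from Ideal.Quotient.eq_zero_iff_mem.2 (hbJ l i), sub_zero]
    exact hψ i l
  have hrel : ∀ l, ∑ i, φ' i l * g i = 0 := fun l => by
    simp only [φ', Matrix.of_apply, sub_mul, Finset.sum_sub_distrib, hb l, sub_self]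
  refine ⟨φ', hφ', ?_⟩
  let ρ : A →+* A ⧸ (maximalIdeal C).map (algebraMap C A) := Ideal.Quotient.mk _
  -- successive approximation of the unit
  haveI : Module.Flat C (Fin r → A) := Module.Flat.trans C A (Fin r → A)
  let F : (Fin (r + 1) → A) →ₗ[C] (Fin r → A) :=
    { toFun := fun e l => ∑ i, e i * φ' i l
      map_add' := fun e e' => funext fun l => by simp [add_mul, Finset.sum_add_distrib]
      map_smul' := fun c e => funext fun l => by simp [Finset.smul_sum, smul_mul_assoc] }
  have key : ∀ k : ℕ, ∃ v ∈ JA, (fun i => g i - (1 + v) * minors φ' i) ∈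
      (J * maximalIdeal C ^ k) • (⊤ : Submodule C (Fin (r + 1) → A)) := by
    intro k
    induction k with
    | zero =>
      refine ⟨0, zero_mem _, ?_⟩
      rw [pow_zero, Ideal.one_eq_top, Ideal.mul_top, mem_smul_pi_iff]
      intro i
      rw [← Ideal.Quotient.eq_zero_iff_mem]
      show mk _ = 0
      simp only [add_zero, one_mul, map_sub, hg i, map_minors, hφ', sub_self]
    | succ k ih =>
      obtain ⟨v, hv, hmem⟩ := ih
      have hF : F (fun i => g i - (1 + v) * minors φ' i) = 0 := funext fun l => by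
        show ∑ i, (g i - (1 + v) * minors φ' i) * φ' i l = 0
        simp only [sub_mul, Finset.sum_sub_distrib, mul_assoc (1 + v), ← Finset.mul_sum]
        rw [sum_minors_mul, mul_zero, sub_zero, ← hrel l]
        exact Finset.sum_congr rfl fun i _ => mul_comm _ _
      obtain ⟨n, j, e, hjK, hsum, he⟩ := exists_decomp F _ hmem hF
      have hu : ∀ t, ∃ u : A, ∀ i, e t i - u * minors φ' i ∈ (maximalIdeal C).map (algebraMap C A) := by
        intro t
        obtain ⟨u₀, hu₀⟩ := exists_eq_mul_delta (φ'.map ρ) (hpair φ' hφ') (fun i => ρ (e t i)) fun l => by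
          have h1 := (mem_smul_pi_iff _ _).1 (he t) l
          rw [← Ideal.Quotient.eq_zero_iff_mem] at h1
          have h2 : ρ (∑ i, e t i * φ' i l) = 0 := h1
          simpa only [map_sum, map_mul, Matrix.map_apply] using h2
        obtain ⟨u, rfl⟩ := Ideal.Quotient.mk_surjective u₀
        refine ⟨u, fun i => ?_⟩
        rw [← Ideal.Quotient.eq_zero_iff_mem]
        show ρ _ = 0
        rw [map_sub, map_mul, map_minors, hu₀ i, sub_eq_zero]
        rfl
      choose u hu using hu
      refine ⟨v + ∑ t, j t • u t, add_mem hv (Ideal.sum_mem _ fun t _ => ?_), ?_⟩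
      · rw [Algebra.smul_def]
        exact Ideal.mul_mem_right _ _ (Ideal.mem_map_of_mem _ (Ideal.mul_le_inf (hjK t)).1)
      · have heq : (fun i => g i - (1 + (v + ∑ t, j t • u t)) * minors φ' i) =
            ∑ t, j t • (fun i => e t i - u t * minors φ' i) := by
          funext i
          have h := congrFun hsum i
          simp only [Finset.sum_apply, Pi.smul_apply] at h
          simp only [Finset.sum_apply, Pi.smul_apply, smul_sub, Finset.sum_sub_distrib, h, add_mul, Finset.sum_mul,
            smul_mul_assoc]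
          ring
        rw [heq, pow_succ, ← mul_assoc]
        exact Submodule.sum_mem _ fun t _ => smul_mem_mul (hjK t) ((mem_smul_pi_iff _ _).2 (hu t))
  obtain ⟨v, hv, hfin⟩ := key N
  rw [hN, Ideal.mul_bot, Submodule.bot_smul, Submodule.mem_bot] at hfin
  have hgv : ∀ i, g i = (1 + v) * minors φ' i := fun i => sub_eq_zero.1 (congrFun hfin i)
  have hunit : IsUnit (1 + v) := by
    refine IsNilpotent.isUnit_one_add ⟨N, ?_⟩
    have := Ideal.pow_mem_pow hv N
    rwa [hJAnil, Ideal.mem_bot] at this
  rw [hgspan]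
  refine le_antisymm (Ideal.span_le.2 ?_) (Ideal.span_le.2 ?_)
  · rintro _ ⟨i, rfl⟩
    rw [hgv i]
    exact Ideal.mul_mem_left _ _ (Ideal.subset_span ⟨i, rfl⟩)
  · rintro _ ⟨i, rfl⟩
    obtain ⟨w, hw⟩ := hunit.exists_left_inv
    rw [show minors φ' i = w * g i by rw [hgv i, ← mul_assoc, hw, one_mul]]
    exact Ideal.mul_mem_left _ _ (Ideal.subset_span ⟨i, rfl⟩)

/-- Injectivity and exactness propagate from the special fibre. -/
theorem exact_of_special [Module.Flat C A] {r : ℕ} (φ : Matrix (Fin (r + 1)) (Fin r) A)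
    (hinj : Function.Injective (φ.map (Ideal.Quotient.mk ((maximalIdeal C).map (algebraMap C A)))).mulVecLin)
    (hex : LinearMap.ker (Fintype.linearCombination (A ⧸ (maximalIdeal C).map (algebraMap C A))
        (minors (φ.map (Ideal.Quotient.mk ((maximalIdeal C).map (algebraMap C A)))))) ≤
      LinearMap.range (φ.map (Ideal.Quotient.mk ((maximalIdeal C).map (algebraMap C A)))).mulVecLin) :
    Function.Injective φ.mulVecLin ∧
      LinearMap.range φ.mulVecLin = LinearMap.ker (Fintype.linearCombination A (minors φ)) := by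
  classical
  haveI : IsNoetherianRing C := inferInstance
  obtain ⟨N, hN⟩ := exists_maximal_pow_eq_bot (C := C)
  haveI : ∀ k : ℕ, Module.Flat C (Fin k → A) := fun k => Module.Flat.trans C A (Fin k → A)
  let ρ : A →+* A ⧸ (maximalIdeal C).map (algebraMap C A) := Ideal.Quotient.mk _
  constructor
  · refine (injective_iff_map_eq_zero _).2 fun x hx => ?_
    have key : ∀ k : ℕ, x ∈ (maximalIdeal C ^ k) • (⊤ : Submodule C (Fin r → A)) := by
      intro k
      induction k with
      | zero => rw [pow_zero, Ideal.one_eq_top, Submodule.top_smul]; trivial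
      | succ k ih =>
        obtain ⟨n, j, e, hjK, hsum, he⟩ := exists_decomp (φ.mulVecLin.restrictScalars C) _ ih hx
        rw [← hsum, pow_succ]
        refine Submodule.sum_mem _ fun t _ => smul_mem_mul (hjK t) ((mem_smul_pi_iff _ _).2 fun l => ?_)
        rw [← Ideal.Quotient.eq_zero_iff_mem]
        refine congrFun (hinj (a₁ := fun l => ρ (e t l)) (a₂ := 0) ?_) l
        rw [map_zero]
        funext i
        rw [Matrix.mulVecLin_apply]
        refine (RingHom.map_mulVec ρ φ (e t) i).symm.trans ?_
        exact Ideal.Quotient.eq_zero_iff_mem.2 ((mem_smul_pi_iff _ _).1 (he t) i)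
    have := key N
    rwa [hN, Submodule.bot_smul, Submodule.mem_bot] at this
  · refine le_antisymm ?_ fun y hy => ?_
    · rintro _ ⟨x, rfl⟩
      exact linearCombination_minors_mulVec φ x
    have key : ∀ k : ℕ, ∃ z, y - φ.mulVecLin z ∈ (maximalIdeal C ^ k) • (⊤ : Submodule C (Fin (r + 1) → A)) := by
      intro k
      induction k with
      | zero => exact ⟨0, by rw [pow_zero, Ideal.one_eq_top, Submodule.top_smul]; trivial⟩
      | succ k ih =>
        obtain ⟨z, hz⟩ := ih
        obtain ⟨n, j, e, hjK, hsum, he⟩ := exists_decomp ((Fintype.linearCombination A (minors φ)).restrictScalars C) _ hz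
          (by rw [LinearMap.restrictScalars_apply, map_sub, show Fintype.linearCombination A (minors φ) y = 0 from hy,
            linearCombination_minors_mulVec, sub_zero])
        have hw : ∀ t, ∃ w, e t - φ.mulVecLin w ∈ maximalIdeal C • (⊤ : Submodule C (Fin (r + 1) → A)) := by
          intro t
          have h1 : (fun i => ρ (e t i)) ∈ LinearMap.range (φ.map ρ).mulVecLin := hex (by
            have h2 := (mem_smul_top_iff _ _).1 (he t)
            rw [← Ideal.Quotient.eq_zero_iff_mem] at h2
            rw [LinearMap.mem_ker, Fintype.linearCombination_apply]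
            refine Eq.trans ?_ h2
            rw [LinearMap.restrictScalars_apply, Fintype.linearCombination_apply, map_sum]
            exact Finset.sum_congr rfl fun i _ => by
              rw [smul_eq_mul, smul_eq_mul, map_mul, map_minors])
          obtain ⟨w₀, hw₀⟩ := h1
          choose w hw using fun l => Ideal.Quotient.mk_surjective (w₀ l)
          refine ⟨w, (mem_smul_pi_iff _ _).2 fun i => ?_⟩
          rw [← Ideal.Quotient.eq_zero_iff_mem]
          show ρ _ = 0
          rw [Pi.sub_apply, map_sub, Matrix.mulVecLin_apply, RingHom.map_mulVec, sub_eq_zero, ← congrFun hw₀ i,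
            Matrix.mulVecLin_apply, show (⇑ρ ∘ w) = w₀ from funext hw]
        choose w hw using hw
        refine ⟨z + ∑ t, j t • w t, ?_⟩
        have heq : y - φ.mulVecLin (z + ∑ t, j t • w t) = ∑ t, j t • (e t - φ.mulVecLin (w t)) := by
          rw [map_add, map_sum]
          simp only [smul_sub, Finset.sum_sub_distrib, hsum, LinearMap.map_smul_of_tower]
          abel
        rw [heq, pow_succ]
        exact Submodule.sum_mem _ fun t _ => smul_mem_mul (hjK t) (hw t)
    obtain ⟨z, hz⟩ := key N
    rw [hN, Submodule.bot_smul, Submodule.mem_bot, sub_eq_zero] at hz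
    exact ⟨z, hz.symm⟩

end Lift

/-- In a smooth algebra over a field an ideal of height at least two contains a regular pair. -/
theorem hasRegularPair_of_height (k : Type u) [Field k] (S : Type u) [CommRing S] [Algebra k S]
    [Algebra.Smooth k S] (I : Ideal S) (h : ∀ q : Ideal S, q.IsPrime → I ≤ q → (2 : ℕ∞) ≤ q.height) :
    McCoy.HasRegularPair I := by
  rcases subsingleton_or_nontrivial S with hS | hS
  · exact Or.inl (Subsingleton.elim _ _)
  haveI := DiagThree.isRegularRing_of_smooth_field k S
  refine McCoy.hasRegularPair_of_idealDepth ?_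
  rw [LC.idealDepth_regular_eq_iInf_height]
  exact le_iInf₂ fun q hq => h q.asIdeal q.isPrime hq

/-- Heights of primes do not change along surjections with nilpotent kernel. -/
theorem height_comap_of_nilpotent {R S : Type u} [CommRing R] [CommRing S] (f : R →+* S)
    (hf : Function.Surjective f) (hker : IsNilpotent (RingHom.ker f)) (q : Ideal S) [q.IsPrime] :
    (q.comap f).height = q.height := by
  have hinj := PrimeSpectrum.comap_injective_of_surjective f hf
  have hsurj : Function.Surjective (PrimeSpectrum.comap f) := by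
    rw [← Set.range_eq_univ, range_comap_of_surjective _ f hf, PrimeSpectrum.zeroLocus_eq_univ_iff]
    obtain ⟨n, hn⟩ := hker
    intro x hx
    exact mem_nilradical.2 ⟨n, by simpa [hn] using Ideal.pow_mem_pow hx n⟩
  let e : PrimeSpectrum S ≃o PrimeSpectrum R :=
    { Equiv.ofBijective _ ⟨hinj, hsurj⟩ with
      map_rel_iff' := fun {a b} => Ideal.comap_le_comap_iff_of_surjective f hf a.asIdeal b.asIdeal }
  have := Order.height_orderIso e (⟨q, inferInstance⟩ : PrimeSpectrum S)
  rw [← PrimeSpectrum.height_eq_orderHeight, ← PrimeSpectrum.height_eq_orderHeight] at this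
  exact this

end Groth.Agent.H9DefT
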