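import Mathlib.RingTheory.MvPolynomial.Basic
import Mathlib.RingTheory.Polynomial.Basic
import Mathlib.RingTheory.FiniteType
import Mathlib.RingTheory.IntegralClosure.IsIntegralClosure.Basic
import Mathlib.RingTheory.Flat.TorsionFree
import Mathlib.RingTheory.PrincipalIdealDomain
import Mathlib.FieldTheory.IsAlgClosed.Basic
import Mathlib.Algebra.Polynomial.FieldDivision
import Mathlib.RingTheory.Artinian.Ring
import Mathlib.RingTheory.RingHom.Flat
import Mathlib.RingTheory.RingHom.Finite

/-! Splitting one point off a punctual ideal in the plane. -/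

set_option autoImplicit false

universe u

open Polynomial

namespace Groth.Agent.H9DefT.PullApart

variable {k : Type u} [Field k]

local notation "R2" => MvPolynomial (Fin 2) k

/-- Two distinct elements of `Fin 2` are all the elements. -/
theorem eq_or_eq {i j : Fin 2} (hij : i ≠ j) (l : Fin 2) : l = i ∨ l = j := by omega

/-- Substitute `c` for the `i`-th variable. -/
noncomputable def sub (i : Fin 2) (c : k) : R2 →ₐ[k] k[X] :=
  MvPolynomial.aeval fun l => if l = i then C c else X

theorem sub_i (i : Fin 2) (c : k) : sub i c (MvPolynomial.X i) = C c := by simp [sub]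

theorem sub_j {i j : Fin 2} (hij : i ≠ j) (c : k) : sub i c (MvPolynomial.X j) = X := by
  simp [sub, hij.symm]

/-- Put the polynomial variable back as `X j`. -/
noncomputable def back (j : Fin 2) : k[X] →ₐ[k] R2 := Polynomial.aeval (MvPolynomial.X j)

theorem sub_back {i j : Fin 2} (hij : i ≠ j) (c : k) (F : k[X]) : sub i c (back j F) = F := by
  rw [back, ← Polynomial.aeval_algHom_apply, sub_j hij, Polynomial.aeval_X_left_apply]

theorem back_mem {i j : Fin 2} (hij : i ≠ j) (f : R2) :
    f - back j (sub i 0 f) ∈ Ideal.span {(MvPolynomial.X i : R2)} := by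
  induction f using MvPolynomial.induction_on with
  | C a => simp [back, sub]
  | add a b ha hb =>
    rw [map_add, map_add, add_sub_add_comm]
    exact add_mem ha hb
  | mul_X a l ha =>
    rw [map_mul, map_mul]
    rcases eq_or_eq hij l with h | h <;> subst l
    · rw [sub_i, map_zero, map_zero, mul_zero, sub_zero]
      exact Ideal.mul_mem_left _ _ (Ideal.mem_span_singleton_self _)
    · rw [sub_j hij, show back j (X : k[X]) = MvPolynomial.X j from aeval_X _, ← sub_mul]
      exact Ideal.mul_mem_right _ _ ha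

theorem sub_eval_mem (p : Fin 2 → k) (f : R2) :
    f - MvPolynomial.C (MvPolynomial.eval p f) ∈
      Ideal.span (Set.range fun l : Fin 2 => MvPolynomial.X l - MvPolynomial.C (p l)) := by
  induction f using MvPolynomial.induction_on with
  | C a => simp
  | add a b ha hb =>
    rw [map_add, map_add, add_sub_add_comm]
    exact add_mem ha hb
  | mul_X a l ha =>
    rw [map_mul, MvPolynomial.eval_X, map_mul]
    have e : a * MvPolynomial.X l - MvPolynomial.C (MvPolynomial.eval p a) * MvPolynomial.C (p l) =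
        (a - MvPolynomial.C (MvPolynomial.eval p a)) * MvPolynomial.X l +
          MvPolynomial.C (MvPolynomial.eval p a) * (MvPolynomial.X l - MvPolynomial.C (p l)) := by ring
    rw [e]
    exact add_mem (Ideal.mul_mem_right _ _ ha) (Ideal.mul_mem_left _ _ (Ideal.subset_span ⟨l, rfl⟩))

/-- Polynomials of degree `< s` in `X j` with coefficients polynomials in `X i`. -/
noncomputable def low (i j : Fin 2) {s : ℕ} (q : Fin s → k[X]) : R2 :=
  ∑ l, aeval (MvPolynomial.X i : R2) (q l) * MvPolynomial.X j ^ (l : ℕ)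

theorem exists_low {i j : Fin 2} (hij : i ≠ j) (𝔞 : Ideal R2) {N : ℕ} (hN : (MvPolynomial.X i : R2) ^ N ∈ 𝔞)
    {s : ℕ} {h₀ : R2} (hh₀ : h₀ ∈ 𝔞) (hπ : sub i 0 h₀ = X ^ s) (f : R2) :
    ∃ q : Fin s → k[X], f - low i j q ∈ 𝔞 := by
  classical
  have step : ∀ f : R2, ∃ (c : Fin s → k) (f' : R2), f - low i j (fun l => C (c l)) - MvPolynomial.X i * f' ∈ 𝔞 := by
    intro f
    let F := sub i 0 f
    let G := F /ₘ X ^ s
    let P := F %ₘ X ^ s
    have hdeg : P.degree < s := by
      have := degree_modByMonic_lt F (monic_X_pow (R := k) s)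
      rwa [degree_X_pow] at this
    obtain ⟨f', hf'⟩ := Ideal.mem_span_singleton.1 (back_mem hij (f - back j P - back j G * h₀))
    have h0 : sub i 0 (f - back j P - back j G * h₀) = 0 := by
      rw [map_sub, map_sub, map_mul, sub_back hij, sub_back hij, hπ, mul_comm, sub_sub, modByMonic_add_div F]
      exact sub_self _
    rw [h0, map_zero, sub_zero] at hf'
    refine ⟨fun l => P.coeff l, f', ?_⟩
    have hP : low i j (fun l : Fin s => C (P.coeff l)) = back j P := by
      conv_rhs => rw [← Polynomial.sum_C_mul_X_pow_eq P, ← Polynomial.sum_fin (fun n a => C a * X ^ n) (by simp) hdeg]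
      rw [map_sum]
      simp only [low, back, map_mul, map_pow, aeval_C, aeval_X]
    rw [hP, ← hf']
    have : f - back j P - (f - back j P - back j G * h₀) = back j G * h₀ := by ring
    rw [this]
    exact Ideal.mul_mem_left _ _ hh₀
  have it : ∀ m : ℕ, ∃ (q : Fin s → k[X]) (f' : R2), f - low i j q - MvPolynomial.X i ^ m * f' ∈ 𝔞 := by
    intro m
    induction m with
    | zero => exact ⟨fun _ => 0, f, by simp [low]⟩
    | succ m ih =>
      obtain ⟨q, f', hf'⟩ := ih
      obtain ⟨c, f'', hf''⟩ := step f'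
      refine ⟨fun l => q l + C (c l) * X ^ m, f'', ?_⟩
      have e : f - low i j (fun l => q l + C (c l) * X ^ m) - MvPolynomial.X i ^ (m + 1) * f'' =
          (f - low i j q - MvPolynomial.X i ^ m * f') +
            MvPolynomial.X i ^ m * (f' - low i j (fun l => C (c l)) - MvPolynomial.X i * f'') := by
        simp only [low, map_add, map_mul, map_pow, aeval_X, add_mul, Finset.sum_add_distrib, mul_sub, Finset.mul_sum]
        rw [show ∑ x : Fin s, aeval (MvPolynomial.X i : R2) (C (c x)) * MvPolynomial.X i ^ m * MvPolynomial.X j ^ (x : ℕ) =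
          ∑ x : Fin s, MvPolynomial.X i ^ m * (aeval (MvPolynomial.X i : R2) (C (c x)) * MvPolynomial.X j ^ (x : ℕ)) from
          Finset.sum_congr rfl fun x _ => by ring]
        ring
      rw [e]
      exact add_mem hf' (Ideal.mul_mem_left _ _ hf'')
  obtain ⟨q, f', hf'⟩ := it N
  refine ⟨q, ?_⟩
  have := add_mem hf' (Ideal.mul_mem_right f' _ hN)
  rwa [sub_add_cancel] at this

/-- The hom `k[t] → R[t]`. -/
noncomputable abbrev coeffMap : k[X] →+* R2[X] := Polynomial.mapRingHom (algebraMap k R2)

/-- Finiteness over `k[t]` of a quotient of `k[x, y][t]` in which `x` and `y` are integral. -/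
theorem finite_of {B : Type u} [CommRing B] {i j : Fin 2} (hij : i ≠ j) (g : R2[X] →+* B)
    (hg : Function.Surjective g)
    (hi : ∃ P : k[X][X], P.Monic ∧ g (eval₂ coeffMap (C (MvPolynomial.X i)) P) = 0)
    (hj : ∃ P : k[X][X], P.Monic ∧ g (eval₂ coeffMap (C (MvPolynomial.X j)) P) = 0) :
    (g.comp (coeffMap (k := k))).Finite := by
  let φ := g.comp (coeffMap (k := k))
  refine RingHom.IsIntegral.to_finite ?_ ?_
  · have hscal : ∀ p : k[X], φ.IsIntegralElem (φ p) := fun p =>
      ⟨X - C p, monic_X_sub_C p, by simp⟩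
    have hgen : ∀ l : Fin 2, φ.IsIntegralElem (g (C (MvPolynomial.X l))) := by
      intro l
      rcases eq_or_eq hij l with h | h <;> subst l
      · obtain ⟨P, hP, he⟩ := hi
        exact ⟨P, hP, by rw [← Polynomial.hom_eval₂]; exact he⟩
      · obtain ⟨P, hP, he⟩ := hj
        exact ⟨P, hP, by rw [← Polynomial.hom_eval₂]; exact he⟩
    intro v
    obtain ⟨F, rfl⟩ := hg v
    induction F using Polynomial.induction_on' with
    | add a b ha hb => rw [map_add]; exact RingHom.IsIntegralElem.add φ ha hb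
    | monomial n a =>
      rw [← C_mul_X_pow_eq_monomial, map_mul]
      refine RingHom.IsIntegralElem.mul φ ?_ ?_
      · induction a using MvPolynomial.induction_on with
        | C r =>
          convert hscal (C r) using 1
          simp [φ, coeffMap, MvPolynomial.algebraMap_eq]
        | add a b ha hb => rw [map_add, map_add]; exact RingHom.IsIntegralElem.add φ ha hb
        | mul_X a l ha =>
          rw [map_mul, map_mul]
          exact RingHom.IsIntegralElem.mul φ ha (hgen l)
      · convert hscal (X ^ n) using 1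
        simp [φ, coeffMap]
  · refine RingHom.FiniteType.of_comp_finiteType (f := (C : k →+* k[X])) ?_
    have e : φ.comp C = g.comp (algebraMap k R2[X]) := by
      ext r; simp [φ, coeffMap, IsScalarTower.algebraMap_apply k R2 R2[X]]
    rw [e]
    refine RingHom.FiniteType.comp_surjective ?_ hg
    rw [RingHom.finiteType_algebraMap]
    infer_instance

theorem main [IsAlgClosed k] (𝔞 : Ideal R2) [Module.Finite k (R2 ⧸ 𝔞)]
    (hn : 2 ≤ Module.finrank k (R2 ⧸ 𝔞))
    (hsupp : 𝔞.radical = Ideal.span {MvPolynomial.X 0, MvPolynomial.X 1}) :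
    ∃ 𝔞' : Ideal R2[X],
      RingHom.Flat (R := k[X]) (S := R2[X] ⧸ 𝔞') ((Ideal.Quotient.mk 𝔞').comp coeffMap) ∧
      RingHom.Finite (A := k[X]) (B := R2[X] ⧸ 𝔞') ((Ideal.Quotient.mk 𝔞').comp coeffMap) ∧
      Ideal.map (Polynomial.evalRingHom (0 : R2)) 𝔞' = 𝔞 ∧
      ∀ c : k, c ≠ 0 →
        Ideal.map (Polynomial.evalRingHom (MvPolynomial.C c)) 𝔞' ≤ Ideal.span {MvPolynomial.X 0, MvPolynomial.X 1} ∧
        ∃ p : Fin 2 → k, p ≠ 0 ∧
          Ideal.map (Polynomial.evalRingHom (MvPolynomial.C c)) 𝔞' ≤
            Ideal.span (Set.range (fun i : Fin 2 => MvPolynomial.X i - MvPolynomial.C (p i))) := by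
  classical
  let m₀ : Ideal R2 := Ideal.span {MvPolynomial.X 0, MvPolynomial.X 1}
  have hXm : ∀ l : Fin 2, (MvPolynomial.X l : R2) ∈ m₀ := fun l => by
    fin_cases l <;> exact Ideal.subset_span (by simp)
  have ham : 𝔞 ≤ m₀ := Ideal.le_radical.trans hsupp.le
  have hm0eval : ∀ f ∈ m₀, MvPolynomial.eval (0 : Fin 2 → k) f = 0 := by
    intro f hf
    have : m₀ ≤ RingHom.ker (MvPolynomial.eval (0 : Fin 2 → k)) := by
      refine Ideal.span_le.2 ?_
      rintro _ (rfl | rfl) <;> simp
    exact this hf
  have hm0max : ∀ f, MvPolynomial.eval (0 : Fin 2 → k) f = 0 → f ∈ m₀ := by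
    intro f hf
    have h := sub_eval_mem (0 : Fin 2 → k) f
    rw [hf, map_zero, sub_zero] at h
    refine Ideal.span_le.2 ?_ h
    rintro _ ⟨l, rfl⟩
    simpa using hXm l
  obtain ⟨i, hi⟩ : ∃ i : Fin 2, (MvPolynomial.X i : R2) ∉ 𝔞 := by
    by_contra hc
    push Not at hc
    have hle : m₀ ≤ 𝔞 := Ideal.span_le.2 (by rintro _ (rfl | rfl) <;> exact hc _)
    have hsurj : Function.Surjective (Algebra.linearMap k (R2 ⧸ 𝔞)) := by
      intro v
      obtain ⟨f, rfl⟩ := Ideal.Quotient.mk_surjective v
      refine ⟨MvPolynomial.eval (0 : Fin 2 → k) f, ?_⟩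
      rw [Algebra.linearMap_apply, IsScalarTower.algebraMap_apply k R2 (R2 ⧸ 𝔞), Ideal.Quotient.algebraMap_eq,
        MvPolynomial.algebraMap_eq, eq_comm, Ideal.Quotient.eq]
      exact hle (hm0max _ (by simp))
    have := LinearMap.finrank_le_finrank_of_injective (f := LinearMap.id (R := k) (M := R2 ⧸ 𝔞)) (fun a b h => h)
    have h1 := LinearMap.finrank_range_le (Algebra.linearMap k (R2 ⧸ 𝔞))
    rw [LinearMap.range_eq_top.2 hsurj, finrank_top, Module.finrank_self] at h1
    omega
  obtain ⟨j, hij⟩ : ∃ j : Fin 2, i ≠ j := ⟨i + 1, by fin_cases i <;> decide⟩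
  have hpow : ∀ l : Fin 2, ∃ N, (MvPolynomial.X l : R2) ^ N ∈ 𝔞 := fun l => by
    have h : (MvPolynomial.X l : R2) ∈ 𝔞.radical := by rw [hsupp]; exact hXm l
    exact h
  obtain ⟨N, hN⟩ := hpow i
  obtain ⟨M, hM⟩ := hpow j
  have hπsurj : Function.Surjective (sub i (0 : k)) := fun F => ⟨back j F, sub_back hij 0 F⟩
  let I₀ : Ideal k[X] := 𝔞.map (sub i (0 : k)).toRingHom
  obtain ⟨G, hG⟩ : ∃ G, I₀ = Ideal.span {G} := (IsPrincipalIdealRing.principal I₀).principal
  have hGdvd : G ∣ X ^ M := by
    rw [← Ideal.mem_span_singleton, ← hG]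
    have := Ideal.mem_map_of_mem (sub i (0 : k)).toRingHom hM
    simpa [I₀, sub_j hij] using this
  obtain ⟨s, -, hs⟩ := (dvd_prime_pow prime_X M).1 hGdvd
  have hI₀ : I₀ = Ideal.span {X ^ s} := by rw [hG]; exact Ideal.span_singleton_eq_span_singleton.2 hs
  obtain ⟨h₀, hh₀, hπ₀⟩ := (Ideal.mem_map_iff_of_surjective (sub i (0 : k)).toRingHom hπsurj).1
    (show X ^ s ∈ I₀ by rw [hI₀]; exact Ideal.mem_span_singleton_self _)
  replace hπ₀ : sub i 0 h₀ = X ^ s := hπ₀
  have hev0 : ∀ (c : k) (f : R2), Polynomial.aeval (0 : k) (sub i c f) =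
      MvPolynomial.eval (fun l => if l = i then c else 0) f := by
    intro c f
    have : (Polynomial.aeval (0 : k)).comp (sub i c) = MvPolynomial.aeval (fun l => if l = i then c else 0) := by
      refine MvPolynomial.algHom_ext fun l => ?_
      by_cases hl : l = i <;> simp [sub, hl]
    exact AlgHom.congr_fun this f
  have hs0 : s ≠ 0 := by
    rintro rfl
    have h := hev0 0 h₀
    rw [hπ₀, pow_zero, map_one, show (fun l : Fin 2 => if l = i then (0 : k) else 0) = 0 from funext fun l => by simp,
      hm0eval h₀ (ham hh₀)] at h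
    exact one_ne_zero h
  obtain ⟨w₀, hw₀⟩ := Ideal.mem_span_singleton.1 (back_mem hij h₀)
  rw [hπ₀, show back j (X ^ s : k[X]) = MvPolynomial.X j ^ s by simp [back]] at hw₀
  obtain ⟨q, hq⟩ := exists_low hij 𝔞 hN hh₀ hπ₀ w₀
  let h : R2 := MvPolynomial.X j ^ s + MvPolynomial.X i * low i j q
  have hh : h ∈ 𝔞 := by
    have e : h = h₀ - MvPolynomial.X i * (w₀ - low i j q) := by
      simp only [h]; linear_combination -hw₀
    rw [e]
    exact sub_mem hh₀ (Ideal.mul_mem_left _ _ hq)
  -- monicity of the specialisations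
  have hsubh : ∀ c : k, ∃ P : k[X], P.degree < s ∧ sub i c h = X ^ s + P := by
    intro c
    refine ⟨∑ l : Fin s, C (c * (q l).eval c) * X ^ (l : ℕ), degree_sum_fin_lt _, ?_⟩
    simp only [h, low, map_add, map_pow, map_mul, map_sum, sub_i, sub_j hij, Finset.mul_sum]
    congr 1
    refine Finset.sum_congr rfl fun l _ => ?_
    rw [← Polynomial.aeval_algHom_apply, sub_i, ← Polynomial.algebraMap_eq, Polynomial.aeval_algebraMap_apply,
      Polynomial.algebraMap_eq, Polynomial.coe_aeval_eq_eval]
    simp [mul_assoc]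
  have hhne : h ≠ 0 := by
    intro h0
    obtain ⟨P, hP, he⟩ := hsubh 0
    rw [h0, map_zero] at he
    exact (monic_X_pow_add hP).ne_zero he.symm
  -- the colon ideal
  let 𝔟 : Ideal R2 := Submodule.colon 𝔞 {MvPolynomial.X i}
  have hb : ∀ f, f ∈ 𝔟 ↔ f * MvPolynomial.X i ∈ 𝔞 := fun f => Submodule.mem_colon_singleton
  have hab : 𝔞 ≤ 𝔟 := fun f hf => (hb f).2 (Ideal.mul_mem_right _ _ hf)
  have hbm : 𝔟 ≤ m₀ := by
    intro f hf
    by_contra hfm
    have hne : MvPolynomial.eval (0 : Fin 2 → k) f ≠ 0 := fun h0 => hfm (hm0max f h0)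
    have h1 : f - MvPolynomial.C (MvPolynomial.eval (0 : Fin 2 → k) f) ∈ m₀ := hm0max _ (by simp)
    have hu : IsUnit (Ideal.Quotient.mk 𝔞 f) := by
      have hn : IsNilpotent (Ideal.Quotient.mk 𝔞 (f - MvPolynomial.C (MvPolynomial.eval (0 : Fin 2 → k) f))) := by
        obtain ⟨n, hn⟩ := (show f - MvPolynomial.C (MvPolynomial.eval (0 : Fin 2 → k) f) ∈ 𝔞.radical by rw [hsupp]; exact h1)
        exact ⟨n, by rw [← map_pow, Ideal.Quotient.eq_zero_iff_mem]; exact hn⟩
      have := hn.isUnit_add_left_of_commute (u := Ideal.Quotient.mk 𝔞 (MvPolynomial.C (MvPolynomial.eval (0 : Fin 2 → k) f)))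
        ((isUnit_iff_ne_zero.2 hne).map ((Ideal.Quotient.mk 𝔞).comp MvPolynomial.C)) (Commute.all _ _)
      simpa [← map_add] using this
    refine hi ?_
    rw [← Ideal.Quotient.eq_zero_iff_mem, ← hu.mul_right_eq_zero, ← map_mul, Ideal.Quotient.eq_zero_iff_mem]
    exact (hb f).1 hf
  -- the family
  let τ : R2[X] := C (MvPolynomial.X i) - X
  let 𝔞' : Ideal R2[X] := Ideal.span {τ} * 𝔟.map C ⊔ Ideal.span {C h}
  have hCh : C h ∈ 𝔞' := Ideal.mem_sup_right (Ideal.mem_span_singleton_self _)
  have hτb : ∀ g ∈ 𝔟.map C, τ * g ∈ 𝔞' := fun g hg =>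
    Ideal.mem_sup_left (Ideal.mul_mem_mul (Ideal.mem_span_singleton_self _) hg)
  have hmem : ∀ F ∈ 𝔞', ∃ b ∈ 𝔟.map C, ∃ u, F = τ * b + C h * u := by
    intro F hF
    obtain ⟨a, ha, b, hb', rfl⟩ := Submodule.mem_sup.1 hF
    obtain ⟨a', ha', rfl⟩ := Ideal.mem_span_singleton_mul.1 ha
    obtain ⟨u, rfl⟩ := Ideal.mem_span_singleton.1 hb'
    exact ⟨a', ha', u, rfl⟩
  have hdvd : ∀ F : R2[X], F.eval (MvPolynomial.X i) = 0 → ∃ G, F = τ * G := by
    intro F hF
    obtain ⟨G, hG⟩ := dvd_iff_isRoot.2 (show F.IsRoot (MvPolynomial.X i) from hF)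
    exact ⟨-G, by rw [hG]; simp only [τ]; ring⟩
  have hcancel : ∀ g, τ * g ∈ 𝔞' → g ∈ 𝔟.map C := by
    intro g hg
    obtain ⟨b, hb', u, he⟩ := hmem _ hg
    have hu : u.eval (MvPolynomial.X i) = 0 := by
      have := congrArg (Polynomial.eval (MvPolynomial.X i)) he
      simp only [τ, eval_mul, eval_sub, eval_C, eval_X, sub_self, zero_mul, eval_add, zero_add] at this
      exact (mul_eq_zero.1 this.symm).resolve_left hhne
    obtain ⟨u', rfl⟩ := hdvd u hu
    have hτ : τ ≠ 0 := by
      intro h0
      have := congrArg (fun F : R2[X] => F.coeff 1) h0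
      simp [τ] at this
    have : g = b + C h * u' := mul_left_cancel₀ hτ (by rw [he]; ring)
    rw [this]
    exact add_mem hb' (Ideal.mul_mem_right _ _ (Ideal.mem_map_of_mem _ (hab hh)))
  refine ⟨𝔞', ?_, ?_, ?_, fun c hc => ?_⟩
  · -- flat: torsion free over k[t]
    letI : Algebra k[X] (R2[X] ⧸ 𝔞') := RingHom.toAlgebra (S := R2[X] ⧸ 𝔞') ((Ideal.Quotient.mk 𝔞').comp (coeffMap (k := k)))
    show Module.Flat k[X] (R2[X] ⧸ 𝔞')
    haveI : Module.IsTorsionFree k[X] (R2[X] ⧸ 𝔞') := by
      rw [Module.isTorsionFree_iff_smul_eq_zero]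
      intro p v hpv
      refine or_iff_not_imp_left.2 fun hp => ?_
      obtain ⟨F, rfl⟩ := Ideal.Quotient.mk_surjective v
      rw [Algebra.smul_def] at hpv
      change (Ideal.Quotient.mk 𝔞') (coeffMap p) * Ideal.Quotient.mk 𝔞' F = 0 at hpv
      rw [← map_mul, Ideal.Quotient.eq_zero_iff_mem] at hpv
      rw [Ideal.Quotient.eq_zero_iff_mem]
      obtain ⟨b, -, u, he⟩ := hmem _ hpv
      have he' := congrArg (Polynomial.eval (MvPolynomial.X i)) he
      simp only [τ, eval_mul, eval_sub, eval_C, eval_X, sub_self, zero_mul, eval_add, zero_add] at he'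
      have hx : (Polynomial.aeval (MvPolynomial.X i : R2) p) = (coeffMap p).eval (MvPolynomial.X i) := by
        simp [coeffMap, Polynomial.aeval_def, Polynomial.eval_map]
      rw [← hx] at he'
      -- `h` is prime to polynomials in the variable `X i`
      have hmon : ∀ (p : k[X]) (f : R2), p ≠ 0 → h ∣ aeval (MvPolynomial.X i : R2) p * f → h ∣ f := by
        let e := MvPolynomial.aeval (R := k) fun l : Fin 2 =>
          (if l = i then C (X : k[X]) else X : k[X][X])
        let e' : k[X][X] →+* R2 := Polynomial.eval₂RingHom (Polynomial.aeval (MvPolynomial.X i : R2)).toRingHom (MvPolynomial.X j)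
        have hee : ∀ f, e' (e f) = f := by
          intro f
          induction f using MvPolynomial.induction_on with
          | C a => simp [e, e', MvPolynomial.algebraMap_eq, Polynomial.algebraMap_eq, IsScalarTower.algebraMap_apply k k[X] k[X][X]]
          | add a b ha hb => rw [map_add, map_add, ha, hb]
          | mul_X a l ha =>
            rw [map_mul, map_mul, ha]
            rcases eq_or_eq hij l with hl | hl <;> subst l <;> simp [e, e', hij.symm]
        have hCp : ∀ p : k[X], e (aeval (MvPolynomial.X i : R2) p) = C p := by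
          intro p
          rw [← Polynomial.aeval_algHom_apply]
          simp only [e, MvPolynomial.aeval_X, if_pos]
          induction p using Polynomial.induction_on' with
          | add a b ha hb => rw [map_add, ha, hb, C_add]
          | monomial n a => rw [aeval_monomial, ← C_pow, IsScalarTower.algebraMap_apply k k[X] k[X][X],
              Polynomial.algebraMap_eq, Polynomial.algebraMap_eq, ← C_mul, C_mul_X_pow_eq_monomial]
        have hmonic : (e h).Monic := by
          have : e h = X ^ s + ∑ l : Fin s, C (X * q l) * X ^ (l : ℕ) := by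
            simp only [h, low, map_add, map_pow, map_mul, map_sum, Finset.mul_sum, hCp]
            simp [e, hij.symm, mul_assoc]
          rw [this]
          exact monic_X_pow_add (degree_sum_fin_lt _)
        intro p f hp hdiv
        have h1 := map_dvd e hdiv
        rw [map_mul, hCp] at h1
        obtain ⟨G', hG'⟩ := h1
        have hr : C p * (e f %ₘ e h) = 0 := by
          have := (modByMonic_eq_zero_iff_dvd hmonic).2 ⟨G', hG'⟩
          rwa [← smul_eq_C_mul, smul_modByMonic, smul_eq_C_mul] at this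
        have hzero : e f %ₘ e h = 0 := (mul_eq_zero.1 hr).resolve_left (C_eq_zero.not.2 hp)
        have h2 := map_dvd e' ((modByMonic_eq_zero_iff_dvd hmonic).1 hzero)
        rwa [hee, hee] at h2
      obtain ⟨w, hw⟩ := hmon p (F.eval (MvPolynomial.X i)) hp ⟨u.eval (MvPolynomial.X i), he'⟩
      obtain ⟨G, hG⟩ := hdvd (F - C h * C w) (by simp [hw])
      have hF : F = τ * G + C h * C w := by rw [← hG]; ring
      have hpG : coeffMap p * G ∈ 𝔟.map C := by
        refine hcancel _ ?_
        have : τ * (coeffMap p * G) = coeffMap p * F - C h * (coeffMap p * C w) := by rw [hF]; ring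
        rw [this]
        exact sub_mem hpv (Ideal.mul_mem_right _ _ hCh)
      have hG' : G ∈ 𝔟.map C := by
        rw [Ideal.mem_map_C_iff]
        have h0 : Polynomial.map (Ideal.Quotient.mk 𝔟) (coeffMap p) * Polynomial.map (Ideal.Quotient.mk 𝔟) G = 0 := by
          rw [← Polynomial.map_mul]
          ext n
          rw [coeff_map, coeff_zero, Ideal.Quotient.eq_zero_iff_mem]
          exact Ideal.mem_map_C_iff.1 hpG n
        have hlc : IsUnit (Polynomial.map (Ideal.Quotient.mk 𝔟) (coeffMap p)).leadingCoeff := by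
          haveI : Nontrivial (R2 ⧸ 𝔟) := Ideal.Quotient.nontrivial_iff.2 fun htop => by
            have := hm0eval 1 (hbm (htop ▸ Submodule.mem_top))
            simp at this
          simp only [coeffMap, coe_mapRingHom, Polynomial.map_map]
          rw [leadingCoeff_map]
          exact (isUnit_iff_ne_zero.2 (leadingCoeff_ne_zero.2 hp)).map _
        intro n
        rw [← Ideal.Quotient.eq_zero_iff_mem, ← coeff_map]
        have hz : Polynomial.map (Ideal.Quotient.mk 𝔟) G = 0 := by
          by_contra hne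
          have hlc' : (Polynomial.map (Ideal.Quotient.mk 𝔟) (coeffMap p)).leadingCoeff *
              (Polynomial.map (Ideal.Quotient.mk 𝔟) G).leadingCoeff ≠ 0 := fun h' =>
            leadingCoeff_ne_zero.2 hne (hlc.mul_right_eq_zero.1 h')
          have := leadingCoeff_mul' hlc'
          rw [h0, leadingCoeff_zero] at this
          exact hlc' this.symm
        rw [hz, coeff_zero]
      rw [hF]
      exact add_mem (hτb _ hG') (Ideal.mul_mem_right _ _ hCh)
    infer_instance
  · -- finite
    refine finite_of (B := R2[X] ⧸ 𝔞') hij (Ideal.Quotient.mk 𝔞') Ideal.Quotient.mk_surjective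
      ⟨(X - C X) * X ^ N, (monic_X_sub_C _).mul (monic_X_pow _), ?_⟩
      ⟨X ^ M * (X ^ s + ∑ l : Fin s, C (X * q l) * X ^ (l : ℕ)),
        (monic_X_pow _).mul (monic_X_pow_add (degree_sum_fin_lt _)), ?_⟩
    · rw [Ideal.Quotient.eq_zero_iff_mem]
      simp only [eval₂_mul, eval₂_sub, eval₂_X, eval₂_C, eval₂_pow, coeffMap, coe_mapRingHom, Polynomial.map_X]
      exact hτb _ (by rw [← map_pow]; exact Ideal.mem_map_of_mem _ (hab hN))
    · rw [Ideal.Quotient.eq_zero_iff_mem]
      simp only [eval₂_mul, eval₂_add, eval₂_pow, eval₂_X, eval₂_finset_sum, eval₂_C]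
      let H : R2[X] := C (MvPolynomial.X j) ^ s +
        ∑ x : Fin s, coeffMap (X * q x) * C (MvPolynomial.X j) ^ (x : ℕ)
      obtain ⟨G', hG'⟩ := hdvd (H - C h) (by
        simp only [H, h, low, eval_sub, eval_add, eval_pow, eval_C, eval_finset_sum, eval_mul, Finset.mul_sum]
        rw [sub_eq_zero]
        congr 1
        refine Finset.sum_congr rfl fun l _ => ?_
        simp [coeffMap, Polynomial.eval_map, Polynomial.aeval_def, mul_assoc])
      show C (MvPolynomial.X j) ^ M * H ∈ 𝔞'
      have : C (MvPolynomial.X j) ^ M * H = τ * (C (MvPolynomial.X j ^ M) * G') + C h * C (MvPolynomial.X j ^ M) := by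
        rw [show H = τ * G' + C h by rw [← hG']; ring, map_pow]; ring
      rw [this]
      exact add_mem (hτb _ (Ideal.mul_mem_right _ _ (Ideal.mem_map_of_mem _ (hab hM))))
        (Ideal.mul_mem_right _ _ hCh)
  · -- the special fibre
    simp only [𝔞', τ, Ideal.map_sup, Ideal.map_mul, Ideal.map_span, Set.image_singleton, coe_evalRingHom, eval_sub,
      eval_C, eval_X, sub_zero, Ideal.map_map]
    rw [show ((Polynomial.evalRingHom (0 : R2)).comp C) = RingHom.id R2 from RingHom.ext fun r => by simp, Ideal.map_id]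
    refine le_antisymm (sup_le ?_ ((Ideal.span_singleton_le_iff_mem _).2 hh)) fun f hf => ?_
    · refine Ideal.mul_le.2 fun a ha b hb' => ?_
      obtain ⟨a, rfl⟩ := Ideal.mem_span_singleton.1 ha
      rw [mul_comm, mul_comm (MvPolynomial.X i) a, ← mul_assoc]
      exact (hb _).1 (Ideal.mul_mem_right _ _ hb')
    · have hF : sub i 0 f ∈ Ideal.span {(X : k[X]) ^ s} := by rw [← hI₀]; exact Ideal.mem_map_of_mem (sub i (0 : k)).toRingHom hf
      obtain ⟨G', hG'⟩ := Ideal.mem_span_singleton.1 hF
      have h0 : sub i 0 (f - back j G' * h) = 0 := by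
        have hh0 : sub i 0 h = X ^ s := by simp [h, sub_i, sub_j hij]
        rw [map_sub, map_mul, sub_back hij, hh0, hG']; ring
      have hm' := back_mem hij (f - back j G' * h)
      rw [h0, map_zero, sub_zero] at hm'
      obtain ⟨b, hb'⟩ := Ideal.mem_span_singleton.1 hm'
      refine Submodule.mem_sup.2 ⟨MvPolynomial.X i * b, Ideal.mul_mem_mul (Ideal.mem_span_singleton_self _)
        ((hb b).2 ?_), back j G' * h, Ideal.mul_mem_left _ _ (Ideal.mem_span_singleton_self _), by rw [← hb']; ring⟩
      rw [mul_comm, ← hb']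
      exact sub_mem hf (Ideal.mul_mem_left _ _ hh)
  · -- the other fibres
    have hmap : Ideal.map (Polynomial.evalRingHom (MvPolynomial.C c : R2)) 𝔞' =
        Ideal.span {MvPolynomial.X i - MvPolynomial.C c} * 𝔟 ⊔ Ideal.span {h} := by
      simp only [𝔞', τ, Ideal.map_sup, Ideal.map_mul, Ideal.map_span, Set.image_singleton, coe_evalRingHom, eval_sub,
        eval_C, eval_X, Ideal.map_map]
      rw [show ((Polynomial.evalRingHom (MvPolynomial.C c : R2)).comp C) = RingHom.id R2 from
        RingHom.ext fun r => by simp, Ideal.map_id]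
    rw [hmap]
    refine ⟨sup_le (Ideal.mul_le_right.trans hbm) ((Ideal.span_singleton_le_iff_mem _).2 (ham hh)), ?_⟩
    obtain ⟨P, hP, he⟩ := hsubh c
    have hmon : (sub i c h).Monic := he ▸ monic_X_pow_add hP
    have hdeg : (sub i c h).degree ≠ 0 := by
      rw [he, degree_add_eq_left_of_degree_lt (by rwa [degree_X_pow]), degree_X_pow]
      exact_mod_cast hs0
    obtain ⟨y, hy⟩ := IsAlgClosed.exists_root _ hdeg
    refine ⟨fun l => if l = i then c else y, fun h0 => hc (by simpa using congrFun h0 i), sup_le ?_ ?_⟩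
    · refine Ideal.mul_le_left.trans ((Ideal.span_singleton_le_iff_mem _).2 (Ideal.subset_span ⟨i, ?_⟩))
      simp
    · refine (Ideal.span_singleton_le_iff_mem _).2 ?_
      have h0 : MvPolynomial.eval (fun l => if l = i then c else y) h = 0 := by
        have he' : (Polynomial.aeval y).comp (sub i c) = MvPolynomial.aeval (fun l => if l = i then c else y) := by
          refine MvPolynomial.algHom_ext fun l => ?_
          by_cases hl : l = i <;> simp [sub, hl]
        refine (AlgHom.congr_fun he' h).symm.trans ?_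
        exact hy
      have := sub_eval_mem (fun l => if l = i then c else y) h
      rwa [h0, map_zero, sub_zero] at this

end Groth.Agent.H9DefT.PullApart
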